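import Cfsg.Agent.H70.CSy.Model
import Cfsg.Agent.H55.PSLAutTwo
import Cfsg.Agent.H55.PSLAutUnique
import Cfsg.Agent.H9.SLQuasi
import Cfsg.Agent.H39.MinSimple
import Cfsg.Agent.H37.Card
import Cfsg.Agent.H40.SL2Tori

/-!
The map of `C(t)` onto `PGL₂(r)` in the semidihedral case of S4069.
-/

set_option autoImplicit false
set_option linter.style.haveILetI false
set_option linter.unusedSectionVars false

namespace H53.CSy

open Matrix
open scoped MatrixGroups

universe u

/-- `C(t)` over `O × ⟨t⟩` is `PGL₂(r)`. -/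
structure Hom {G : Type u} [Group G] [Finite G] (D : H70.CSy.Setup G) where
  r : ℕ
  hr : Fact r.Prime
  hr5 : 5 ≤ r
  π : ↥(Subgroup.centralizer ({D.t} : Set G)) →* PGL(2, ZMod r)
  surj : Function.Surjective π
  ker : ∀ c : ↥(Subgroup.centralizer ({D.t} : Set G)), π c = 1 ↔ ∃ o ∈ D.O, (c : G) = o ∨ (c : G) = D.t * o
  r_O : (r * (r ^ 2 - 1)).Coprime (Nat.card D.O)
  card_ct : Nat.card (Subgroup.centralizer ({D.t} : Set G)) =
    2 * r * (r ^ 2 - 1) * Nat.card D.O
  card_pgl : Nat.card PGL(2, ZMod r) = r * (r ^ 2 - 1)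
  mem_K : ∀ c : ↥(Subgroup.centralizer ({D.t} : Set G)), (c : G) ∈ D.K ↔ ∀ g : GL (Fin 2) (ZMod r), ProjGenLinGroup.mk g = π c →
    IsSquare (g : Matrix (Fin 2) (Fin 2) (ZMod r)).det
  O_comm : ∀ k ∈ D.K, ∀ o ∈ D.O, k * o = o * k

theorem card_SL {r : ℕ} [Fact r.Prime] :
    Nat.card (SpecialLinearGroup (Fin 2) (ZMod r)) = r * (r ^ 2 - 1) := by
  have h := H37.card_SL_fin (F := ZMod r) 2 one_le_two
  simp [Fin.prod_univ_two, -Nat.card_eq_fintype_card] at h
  have h1 : 1 < r := (Fact.out : r.Prime).one_lt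
  refine Nat.eq_of_mul_eq_mul_left (show 0 < r - 1 by omega) ?_
  rw [h, show r ^ 2 - r = r * (r - 1) by rw [pow_two, Nat.mul_sub_one]]
  ring

theorem det_sq_iff {F : Type*} [Field F] {g : GL (Fin 2) F}
    (h : IsSquare (g : Matrix (Fin 2) (Fin 2) F).det) :
    ∃ s : SpecialLinearGroup (Fin 2) F,
      ProjGenLinGroup.mk (SpecialLinearGroup.toGL s) = ProjGenLinGroup.mk g := by
  obtain ⟨u, hu⟩ := h
  have hu0 : u ≠ 0 := fun h0 => GeneralLinearGroup.det_ne_zero g (by rw [hu, h0, mul_zero])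
  refine ⟨⟨(g * GeneralLinearGroup.scalar (Fin 2) (Units.mk0 u hu0)⁻¹ : GL (Fin 2) F).val, ?_⟩, ?_⟩
  · rw [Units.val_mul, det_mul, hu]
    simp [det_fin_two]
    field_simp
  · rw [ProjGenLinGroup.mk_eq_mk_iff]
    refine ⟨Units.mk0 u hu0, Units.ext ?_⟩
    rw [Units.val_mul]
    show (g * GeneralLinearGroup.scalar (Fin 2) (Units.mk0 u hu0)⁻¹ : GL (Fin 2) F).val * _ = _
    rw [← Units.val_mul, map_inv, inv_mul_cancel_right]

theorem nonempty_hom {G : Type u} [Group G] [Finite G] (D : H70.CSy.Setup G)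
    (hns : ¬ Group.IsSolvable ↥(Subgroup.centralizer ({D.t} : Set G))) : Nonempty (Hom D) := by
  classical
  haveI : Fact (Nat.Prime 2) := ⟨Nat.prime_two⟩
  set Ct := Subgroup.centralizer ({D.t} : Set G) with hCt
  obtain ⟨G0, hG0n, hG0i, X, L, hXn, hLn, hinf, hsup, hco, hXodd, -, r, hr, hr5, hL⟩ :=
    D.hyp.below Ct D.ne_top hns
  haveI := hr
  set K' := D.K.subgroupOf Ct with hK'
  haveI hK'n : K'.Normal := by
    rw [hK']
    exact Subgroup.normal_subgroupOf_iff_le_normalizer D.K_le |>.2 D.K_norm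
  have hK'i : K'.index = 2 := D.K_index
  have htC : D.t ∈ Ct := Subgroup.mem_centralizer_singleton_iff.2 rfl
  let t' : Ct := ⟨D.t, htC⟩
  have ht2 : t' * t' = 1 := Subtype.ext (by
    show D.t * D.t = 1
    rw [← pow_two, ← D.t_ord, pow_orderOf_eq_one])
  have htne : t' ≠ 1 := fun h => by
    have := congrArg (fun z : Ct => orderOf (z : G)) h
    simp [t', D.t_ord] at this
  have htc : ∀ c : Ct, t' * c = c * t' := fun c =>
    Subtype.ext (Subgroup.mem_centralizer_singleton_iff.1 c.2).symm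
  have hyC : (D.y : G) ∈ Ct := D.S_le D.y.2
  let y' : Ct := ⟨D.y, hyC⟩
  have hyK : y' ∉ K' := by
    intro h
    have := (D.mem_K_y 0).1 (by simpa using Subgroup.mem_subgroupOf.1 h)
    exact this (dvd_zero 2)
  have hy2 : y' * y' = 1 := Subtype.ext
    (show (D.y : G) * D.y = 1 from congrArg Subtype.val D.qd.y_mul_y)
  -- `K ≤ G₀`
  have hKG0 : K' ≤ G0 := by
    haveI := hG0n
    have hd : G0.relIndex K' ∣ 2 := (Subgroup.relIndex_dvd_index_of_normal G0 K').trans hG0i
    rcases (Nat.dvd_prime Nat.prime_two).1 hd with h | h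
    · exact Subgroup.relIndex_eq_one.1 h
    · exfalso
      refine D.K_no_two ((G0.subgroupOf K').map
        (Subgroup.subgroupOfEquivOfLe D.K_le).toMonoidHom) ?_
      rw [Subgroup.index_map_of_bijective (MulEquiv.bijective _)]
      exact h
  -- decomposition of `G₀`
  haveI := hXn
  haveI := hLn
  have hXL : ∀ x ∈ X, ∀ l ∈ L, x * l = l * x := fun x hx l hl =>
    Subgroup.commute_of_normal_of_disjoint X L hXn hLn (disjoint_iff.2 hinf) x l hx hl
  have hdec : ∀ g : G0, ∃ x ∈ X, ∃ l ∈ L, x * l = g := fun g => by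
    obtain ⟨x, hx, l, hl, e⟩ := Subgroup.mem_sup_of_normal_left.1 (hsup ▸ Subgroup.mem_top g)
    exact ⟨x, hx, l, hl, e⟩
  have hpart : ∀ x ∈ X, ∀ l ∈ L, ∀ m : ℕ, (x * l) ^ m = 1 → x ^ m = 1 ∧ l ^ m = 1 := by
    intro x hx l hl m hm
    rw [Commute.mul_pow (hXL x hx l hl)] at hm
    have h1 : x ^ m = 1 := by
      have h2 : x ^ m ∈ X ⊓ L :=
        Subgroup.mem_inf.2 ⟨pow_mem hx m,
          by rw [eq_inv_of_mul_eq_one_left hm]; exact inv_mem (pow_mem hl m)⟩
      rwa [hinf, Subgroup.mem_bot] at h2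
    rw [h1, one_mul] at hm
    exact ⟨h1, hm⟩
  have hinvolL : ∀ g : G0, g * g = 1 → g ∈ L := by
    intro g hg
    obtain ⟨x, hx, l, hl, rfl⟩ := hdec g
    have h1 := (hpart x hx l hl 2 (by rw [pow_two]; exact hg)).1
    have hx1 : x = 1 := by
      rw [← orderOf_eq_one_iff]
      rcases (Nat.dvd_prime Nat.prime_two).1 (orderOf_dvd_of_pow_eq_one h1) with e | e
      · exact e
      · exfalso
        have h2 := Subgroup.orderOf_dvd_natCard X hx
        rw [e] at h2
        exact Nat.not_even_iff_odd.2 hXodd (even_iff_two_dvd.2 h2)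
    rw [hx1, one_mul]
    exact hl
  have htK : t' ∈ K' := Subgroup.mem_subgroupOf.2 D.t_mem_K
  let t0 : G0 := ⟨t', hKG0 htK⟩
  have ht0L : t0 ∈ L := hinvolL _ (Subtype.ext ht2)
  have hF2 : (2 : ZMod r) ≠ 0 := by
    intro h
    have : r ∣ 2 := (ZMod.natCast_eq_zero_iff 2 r).1 (by exact_mod_cast h)
    have := Nat.le_of_dvd (by norm_num) this
    omega
  haveI hPsimple : IsSimpleGroup (Matrix.ProjectiveSpecialLinearGroup (Fin 2) (ZMod r)) :=
    H39.G2_simple (by rw [ZMod.card]; omega)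
  have hperf : commutator (SpecialLinearGroup (Fin 2) (ZMod r)) = ⊤ := by
    refine Cfsg.Agent.H9.commutator_SL_eq_top_of_square ⟨2, hF2, fun h => ?_⟩
    have h3 : ((3 : ℕ) : ZMod r) = 0 := by push_cast; linear_combination h
    have := Nat.le_of_dvd (by norm_num) ((ZMod.natCast_eq_zero_iff 3 r).1 h3)
    omega
  -- `L` is `SL(2, r)`
  obtain ⟨e⟩ : Nonempty (L ≃* SpecialLinearGroup (Fin 2) (ZMod r)) := by
    rcases hL with h | h
    · exfalso
      obtain ⟨e⟩ := h
      have hc : e ⟨t0, ht0L⟩ ∈ Subgroup.center (Matrix.ProjectiveSpecialLinearGroup (Fin 2) (ZMod r)) := by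
        rw [Subgroup.mem_center_iff]
        intro s
        obtain ⟨l, rfl⟩ := e.surjective s
        rw [← map_mul, ← map_mul]
        congr 1
        exact Subtype.ext (Subtype.ext ((htc _).symm))
      rcases (inferInstance : (Subgroup.center
          (Matrix.ProjectiveSpecialLinearGroup (Fin 2) (ZMod r))).Normal).eq_bot_or_eq_top with h | h
      · rw [h, Subgroup.mem_bot, MulEquiv.map_eq_one_iff, Subtype.ext_iff, Subtype.ext_iff] at hc
        exact htne hc
      · have hab := Group.isSolvable_of_comm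
          (fun a b : Matrix.ProjectiveSpecialLinearGroup (Fin 2) (ZMod r) =>
            Subgroup.mem_center_iff.1 (h ▸ Subgroup.mem_top b) a)
        have hmk : Function.Surjective (QuotientGroup.mk' (Subgroup.center
            (SpecialLinearGroup (Fin 2) (ZMod r)))) := QuotientGroup.mk'_surjective _
        have h1 : commutator (Matrix.ProjectiveSpecialLinearGroup (Fin 2) (ZMod r)) = ⊤ := by
          rw [eq_top_iff, ← MonoidHom.range_eq_top.2 hmk, MonoidHom.range_eq_map, ← hperf,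
            map_commutator_eq]
          exact Subgroup.commutator_mono le_top le_top
        have h2 : commutator (Matrix.ProjectiveSpecialLinearGroup (Fin 2) (ZMod r)) = ⊥ := by
          rw [_root_.commutator_def, Subgroup.commutator_eq_bot_iff_le_centralizer]
          intro a _
          rw [Subgroup.mem_centralizer_iff]
          intro b _
          exact Subgroup.mem_center_iff.1 (h ▸ Subgroup.mem_top a) b
        exact top_ne_bot (h1.symm.trans h2)
    · exact h
  have hS_invol : ∀ s : SpecialLinearGroup (Fin 2) (ZMod r), s * s = 1 → s = 1 ∨ s = -1 := by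
    intro s hs
    refine H40.eq_pm_of_scalar ?_
    have h1 := congrArg Subtype.val hs
    have hd := H40.comm_of_scalar (H40.scalar_one (F := ZMod r)) s
    have e' : (s : Matrix (Fin 2) (Fin 2) (ZMod r)) * s = 1 := h1
    have e2 : (s : Matrix (Fin 2) (Fin 2) (ZMod r)) * s =
        (s : Matrix (Fin 2) (Fin 2) (ZMod r)).trace • (s : Matrix (Fin 2) (Fin 2) (ZMod r)) - 1 := by
      have hdet : (s : Matrix (Fin 2) (Fin 2) (ZMod r)).det = 1 := s.det_coe
      rw [det_fin_two] at hdet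
      ext i j
      fin_cases i <;> fin_cases j <;> simp [Matrix.mul_apply, trace_fin_two] <;>
        first | linear_combination -hdet | linear_combination hdet | ring
    rw [e'] at e2
    have h00 := congrFun (congrFun e2 0) 0
    have h01 := congrFun (congrFun e2 0) 1
    have h10 := congrFun (congrFun e2 1) 0
    have h11 := congrFun (congrFun e2 1) 1
    simp at h00 h01 h10 h11
    have htr : (s : Matrix (Fin 2) (Fin 2) (ZMod r)).trace ≠ 0 := by
      intro h0
      rw [h0] at h00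
      exact hF2 (by linear_combination h00)
    exact ⟨h01.resolve_left htr, h10.resolve_left htr,
      mul_left_cancel₀ htr (by linear_combination h11 - h00)⟩
  have hK'G0 : K' = G0 := by
    refine le_antisymm hKG0 ?_
    rcases (Nat.dvd_prime Nat.prime_two).1 hG0i with h | h
    · exfalso
      have hy0 : y' ∈ G0 := by rw [Subgroup.index_eq_one.1 h]; trivial
      have hyL : (⟨y', hy0⟩ : G0) ∈ L := hinvolL _ (Subtype.ext hy2)
      have hyne : y' ≠ t' := fun e => hyK (e ▸ htK)
      have hy1 : y' ≠ 1 := fun e => hyK (e ▸ one_mem _)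
      have hsq : ∀ l : L, (l : G0) * l = 1 → e l = 1 ∨ e l = -1 := fun l hl =>
        hS_invol _ (by rw [← map_mul, show l * l = 1 from Subtype.ext hl, map_one])
      rcases hsq ⟨_, hyL⟩ (Subtype.ext hy2) with ey | ey
      · rw [MulEquiv.map_eq_one_iff, Subtype.ext_iff, Subtype.ext_iff] at ey
        exact hy1 ey
      rcases hsq ⟨_, ht0L⟩ (Subtype.ext ht2) with et | et
      · rw [MulEquiv.map_eq_one_iff, Subtype.ext_iff, Subtype.ext_iff] at et
        exact htne et
      have := e.injective (ey.trans et.symm)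
      exact hyne (congrArg (fun z : L => ((z : G0) : Ct)) this)
    · intro g hg
      have h1 := Subgroup.relIndex_mul_index hKG0
      rw [h, hK'i] at h1
      exact Subgroup.relIndex_eq_one.1 (by omega) hg
  subst hK'G0
  -- the two factors inside `C(t)`
  let Lc : Subgroup Ct := L.map K'.subtype
  let Xc : Subgroup Ct := X.map K'.subtype
  have hLcard : Nat.card L = r * (r ^ 2 - 1) := by rw [Nat.card_congr e.toEquiv, card_SL]
  have hcardK : Nat.card K' = Nat.card X * Nat.card L := by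
    rw [← Nat.card_prod]
    refine (Nat.card_eq_of_bijective (fun p : X × L => (p.1 : K') * p.2) ⟨?_, ?_⟩).symm
    · rintro ⟨x, l⟩ ⟨x', l'⟩ h
      have h' : ((x' : K')⁻¹ * x) = (l' : K') * (l : K')⁻¹ := by
        rw [eq_mul_inv_iff_mul_eq, mul_assoc]
        simp only at h
        rw [h, inv_mul_cancel_left]
      have h2 : (x' : K')⁻¹ * x ∈ X ⊓ L :=
        Subgroup.mem_inf.2 ⟨mul_mem (inv_mem x'.2) x.2, by rw [h']; exact mul_mem l'.2 (inv_mem l.2)⟩
      rw [hinf, Subgroup.mem_bot] at h2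
      rw [h2] at h'
      exact Prod.ext (Subtype.ext (inv_mul_eq_one.1 h2).symm)
        (Subtype.ext (mul_inv_eq_one.1 h'.symm).symm)
    · intro g
      obtain ⟨x, hx, l, hl, rfl⟩ := hdec g
      exact ⟨(⟨x, hx⟩, ⟨l, hl⟩), rfl⟩
  have hchar : ∀ (k : K') (N N' : Subgroup K'), N.Normal → (∀ g : K', ∃ a ∈ N, ∃ b ∈ N', a * b = g) →
      (∀ a ∈ N, ∀ b ∈ N', ∀ m : ℕ, (a * b) ^ m = 1 → a ^ m = 1 ∧ b ^ m = 1) →
      (Nat.card N).Coprime (Nat.card N') → k ^ Nat.card N' = 1 → k ∈ N' := by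
    intro k N N' _ hd hp hc hk
    obtain ⟨a, ha, b, hb, rfl⟩ := hd k
    have h1 := (hp a ha b hb _ hk).1
    have ha1 : a = 1 := by
      rw [← orderOf_eq_one_iff]
      exact Nat.eq_one_of_dvd_coprimes hc (Subgroup.orderOf_dvd_natCard N ha)
        (orderOf_dvd_of_pow_eq_one h1)
    rw [ha1, one_mul]
    exact hb
  have hLiff : ∀ k : K', k ^ Nat.card L = 1 ↔ k ∈ L := fun k =>
    ⟨hchar k X L hXn hdec hpart hco, fun h => orderOf_dvd_iff_pow_eq_one.1
      (Subgroup.orderOf_dvd_natCard L h)⟩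
  have hXiff : ∀ k : K', k ^ Nat.card X = 1 ↔ k ∈ X := fun k =>
    ⟨hchar k L X hLn (fun g => by
        obtain ⟨x, hx, l, hl, e⟩ := hdec g
        exact ⟨l, hl, x, hx, (hXL x hx l hl).symm.trans e⟩)
      (fun a ha b hb m hm => by
        rw [← hXL b hb a ha] at hm
        exact (hpart b hb a ha m hm).symm) hco.symm, fun h => orderOf_dvd_iff_pow_eq_one.1
      (Subgroup.orderOf_dvd_natCard X h)⟩
  have hnorm : ∀ (N : Subgroup K') (m : ℕ), (∀ k : K', k ^ m = 1 ↔ k ∈ N) →
      (N.map K'.subtype).Normal := by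
    intro N m hN
    refine ⟨?_⟩
    rintro _ ⟨k, hk, rfl⟩ c
    refine ⟨⟨c * (k : Ct) * c⁻¹, hK'n.conj_mem _ k.2 c⟩, (hN _).1 ?_, rfl⟩
    refine Subtype.ext ?_
    show (c * (k : Ct) * c⁻¹) ^ m = 1
    rw [conj_pow, ← SubmonoidClass.coe_pow, (hN k).2 hk]
    simp
  haveI hLcn : Lc.Normal := hnorm L _ hLiff
  haveI hXcn : Xc.Normal := hnorm X _ hXiff
  -- `X = O`
  have hXO : ∀ x ∈ X, ((x : Ct) : G) ∈ D.O := by
    intro x hx
    refine D.O_max (Xc.map Ct.subtype) (Subgroup.map_subtype_le Xc) ?_ ?_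
      ⟨(x : Ct), ⟨x, hx, rfl⟩, rfl⟩
    · intro c hc
      rw [Subgroup.mem_normalizer_iff]
      intro g
      constructor
      · rintro ⟨z, hz, rfl⟩
        exact ⟨⟨c, hc⟩ * z * ⟨c, hc⟩⁻¹, hXcn.conj_mem z hz _, rfl⟩
      · rintro ⟨z, hz, e⟩
        refine ⟨(⟨c, hc⟩ : Ct)⁻¹ * z * ⟨c, hc⟩, ?_, ?_⟩
        · simpa using hXcn.conj_mem z hz (⟨c, hc⟩ : Ct)⁻¹
        · show c⁻¹ * (z : G) * c = g
          rw [show (z : G) = c * g * c⁻¹ from e]
          group
    · rw [Subgroup.card_map_of_injective Ct.subtype_injective,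
        Subgroup.card_map_of_injective K'.subtype_injective]
      exact hXodd
  have hOX : ∀ k : K', ((k : Ct) : G) ∈ D.O → k ∈ X := by
    intro k hk
    obtain ⟨x, hx, l, hl, rfl⟩ := hdec k
    have hlO : ((l : Ct) : G) ∈ D.O := by
      have := mul_mem (inv_mem (hXO x hx)) hk
      simpa using this
    -- the odd normal subgroup `L ∩ O` of `L` is trivial
    let N : Subgroup L := D.O.comap ((Ct.subtype.comp K'.subtype).comp L.subtype)
    haveI hNn : N.Normal := ⟨fun z hz w => by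
      have hw : (((w : K') : Ct) : G) ∈ Subgroup.normalizer (D.O : Set G) := D.O_norm ((w : K') : Ct).2
      exact (Subgroup.mem_normalizer_iff.1 hw _).1 hz⟩
    have hNodd : Odd (Nat.card N) := D.O_odd.of_dvd_nat
      (Subgroup.card_comap_dvd_of_injective D.O _ (Ct.subtype_injective.comp
        (K'.subtype_injective.comp L.subtype_injective)))
    let f := (QuotientGroup.mk' (Subgroup.center (SpecialLinearGroup (Fin 2) (ZMod r)))).comp
      e.toMonoidHom
    have hfs : Function.Surjective f := (QuotientGroup.mk'_surjective _).comp e.surjective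
    haveI : (N.map f).Normal := Subgroup.Normal.map hNn f hfs
    have hzero : e ⟨l, hl⟩ = 1 := by
      have hsub : e ⟨l, hl⟩ ∈ Subgroup.center (SpecialLinearGroup (Fin 2) (ZMod r)) := by
        rcases (inferInstance : (N.map f).Normal).eq_bot_or_eq_top with h | h
        · rw [Subgroup.map_eq_bot_iff] at h
          exact (QuotientGroup.eq_one_iff _).1 (h (show (⟨l, hl⟩ : L) ∈ N from hlO))
        · exfalso
          have h2 : Nat.card (Matrix.ProjectiveSpecialLinearGroup (Fin 2) (ZMod r)) ∣ Nat.card N := by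
            rw [← Subgroup.card_top (G := Matrix.ProjectiveSpecialLinearGroup (Fin 2) (ZMod r))]
            exact (show (⊤ : Subgroup _) = N.map f from h.symm) ▸ Subgroup.card_map_dvd _ _
          have h3 : 2 ∣ Nat.card (Matrix.ProjectiveSpecialLinearGroup (Fin 2) (ZMod r)) := by
            have h4 := H37.card_SL_eq_card_center_mul_card_PSL (n := Fin 2) (F := ZMod r)
            rw [H40.card_center_two hF2, card_SL] at h4
            obtain ⟨k, hk⟩ : ∃ k, r = 2 * k + 1 :=
              ⟨r / 2, by have := (Fact.out : r.Prime).eq_two_or_odd; omega⟩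
            have h5 : 4 ∣ r * (r ^ 2 - 1) := by
              refine dvd_mul_of_dvd_right ⟨k * (k + 1), ?_⟩ r
              rw [hk]
              have : (2 * k + 1) ^ 2 = 4 * (k * (k + 1)) + 1 := by ring
              omega
            omega
          exact Nat.not_even_iff_odd.2 hNodd (even_iff_two_dvd.2 (h3.trans h2))
      have hsc := H40.eq_pm_of_scalar (H40.scalar_iff_mem_center.1 hsub)
      rcases hsc with h | h
      · exact h
      · exfalso
        have h2 : orderOf (⟨⟨l, hl⟩, hlO⟩ : N) = 2 := by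
          rw [← orderOf_injective N.subtype N.subtype_injective]
          show orderOf (⟨l, hl⟩ : L) = 2
          rw [← orderOf_injective e.toMonoidHom e.injective]
          show orderOf (e ⟨l, hl⟩) = 2
          rw [h]
          refine orderOf_eq_prime (by rw [pow_two, neg_mul_neg, one_mul]) fun h1 => ?_
          have := congrArg (fun z : SpecialLinearGroup (Fin 2) (ZMod r) =>
            (z : Matrix (Fin 2) (Fin 2) (ZMod r)) 0 0) h1
          simp at this
          exact hF2 (by linear_combination -this)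
        exact Nat.not_even_iff_odd.2 hNodd (even_iff_two_dvd.2 (h2 ▸ orderOf_dvd_natCard _))
    rw [MulEquiv.map_eq_one_iff, Subtype.ext_iff] at hzero
    rw [show l = 1 from hzero, mul_one]
    exact hx
  have hOK : ∀ o ∈ D.O, ∃ k ∈ X, ((k : Ct) : G) = o := fun o ho =>
    ⟨⟨⟨o, D.O_le ho⟩, D.O_le_K ho⟩, hOX _ ho, rfl⟩
  have hXcard : Nat.card X = Nat.card D.O := by
    refine Nat.card_eq_of_bijective (fun x : X => (⟨_, hXO x x.2⟩ : D.O)) ⟨?_, ?_⟩
    · intro x x' h
      exact Subtype.ext (Subtype.ext (Subtype.ext (congrArg (fun z : D.O => (z : G)) h)))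
    · rintro ⟨o, ho⟩
      obtain ⟨k, hk, rfl⟩ := hOK o ho
      exact ⟨⟨k, hk⟩, rfl⟩
  have hcardC : Nat.card Ct = 2 * r * (r ^ 2 - 1) * Nat.card D.O := by
    rw [← K'.card_mul_index, hK'i, hcardK, hXcard, hLcard]
    ring
  have hOcomm : ∀ k ∈ D.K, ∀ o ∈ D.O, k * o = o * k := by
    intro k hk o ho
    obtain ⟨x, hx, l, hl, hxl⟩ := hdec ⟨⟨k, D.K_le hk⟩, hk⟩
    obtain ⟨z, hz, rfl⟩ := hOK o ho
    have e1 : ((x : Ct) : G) * ((l : Ct) : G) = k := congrArg (fun w : K' => ((w : Ct) : G)) hxl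
    have e2 := congrArg (fun w : K' => ((w : Ct) : G)) (hXL z hz l hl)
    simp only [Subgroup.coe_mul] at e2
    have e3 : ((x : Ct) : G) * ((z : Ct) : G) = ((z : Ct) : G) * ((x : Ct) : G) := by
      haveI := D.O_cyc
      letI := IsCyclic.commGroup (α := D.O)
      exact congrArg Subtype.val (mul_comm (⟨_, hXO x hx⟩ : D.O) ⟨_, ho⟩)
    rw [← e1, mul_assoc, ← e2, ← mul_assoc, e3, mul_assoc]
  -- the action on `L`
  let eL : Lc ≃* SpecialLinearGroup (Fin 2) (ZMod r) :=
    (L.equivMapOfInjective K'.subtype K'.subtype_injective).symm.trans e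
  let toAut : MulAut Lc →* MulAut (SpecialLinearGroup (Fin 2) (ZMod r)) :=
    (MulAut.congr eL).toMonoidHom
  let ψ : Ct →* MulAut (H55.PSLn 2 (ZMod r)) :=
    (H55.pslAut.comp toAut).comp MulAut.conjNormal
  let ι : PGL(2, ZMod r) →* MulAut (H55.PSLn 2 (ZMod r)) :=
    ProjGenLinGroup.lift H55.conjP (by
      ext1 c
      exact (H55.conjP_eq_one_iff le_rfl).2 ⟨c, rfl⟩)
  have hι : Function.Bijective ι := by
    refine ⟨(injective_iff_map_eq_one ι).2 fun x hx => ?_, fun α => ?_⟩
    · obtain ⟨g, rfl⟩ := ProjGenLinGroup.mk_surjective x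
      rw [ProjGenLinGroup.lift_mk, H55.conjP_eq_one_iff le_rfl] at hx
      obtain ⟨c, rfl⟩ := hx
      exact ProjGenLinGroup.mk_scalar c
    · obtain ⟨g, σ, rfl⟩ := H55.aut_PSL_two α
      refine ⟨ProjGenLinGroup.mk g, ?_⟩
      rw [ProjGenLinGroup.lift_mk, show σ = 1 from RingEquiv.toRingHom_injective
        (RingHom.ext_zmod _ _), map_one, mul_one]
  let π : Ct →* PGL(2, ZMod r) := (MulEquiv.ofBijective ι hι).symm.toMonoidHom.comp ψ
  have hιπ : ∀ c, ι (π c) = ψ c := fun c => (MulEquiv.ofBijective ι hι).apply_symm_apply (ψ c)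
  have hψ : ∀ (c : Ct) (s : SpecialLinearGroup (Fin 2) (ZMod r)),
      ψ c (H55.pmk s) = H55.pmk (eL (MulAut.conjNormal c (eL.symm s))) := fun c s => rfl
  have hπl : ∀ l : Lc, π (l : Ct) = ProjGenLinGroup.mk (SpecialLinearGroup.toGL (eL l)) := by
    intro l
    refine hι.1 ?_
    rw [hιπ, ProjGenLinGroup.lift_mk, H55.conjP_toGL]
    refine MulEquiv.ext fun z => ?_
    obtain ⟨s, rfl⟩ := H55.pmk_surjective z
    rw [hψ, MulAut.conj_apply, ← map_inv, ← map_mul, ← map_mul]
    congr 1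
    rw [show MulAut.conjNormal (l : Ct) (eL.symm s) = l * eL.symm s * l⁻¹ from Subtype.ext rfl]
    rw [map_mul, map_mul, map_inv, eL.apply_symm_apply]
  -- the kernel
  have hker0 : ∀ c : Ct, π c = 1 → ∀ l ∈ Lc, c * l = l * c := by
    intro c hc
    have hψc : ψ c = 1 := by rw [← hιπ, hc, map_one]
    let δ : SpecialLinearGroup (Fin 2) (ZMod r) → SpecialLinearGroup (Fin 2) (ZMod r) :=
      fun s => s⁻¹ * eL (MulAut.conjNormal c (eL.symm s))
    have hδc : ∀ s, δ s ∈ Subgroup.center (SpecialLinearGroup (Fin 2) (ZMod r)) := fun s =>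
      QuotientGroup.eq.1 (show H55.pmk s = H55.pmk _ by rw [← hψ, hψc]; rfl)
    let δh : SpecialLinearGroup (Fin 2) (ZMod r) →* SpecialLinearGroup (Fin 2) (ZMod r) :=
      MonoidHom.mk' δ (fun s s' => by
        have h1 := Subgroup.mem_center_iff.1 (hδc s) s'⁻¹
        show (s * s')⁻¹ * eL (MulAut.conjNormal c (eL.symm (s * s'))) = δ s * δ s'
        simp only [map_mul, _root_.mul_inv_rev]
        calc s'⁻¹ * s⁻¹ * (eL (MulAut.conjNormal c (eL.symm s)) *
              eL (MulAut.conjNormal c (eL.symm s')))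
            = s'⁻¹ * δ s * eL (MulAut.conjNormal c (eL.symm s')) := by simp only [δ, mul_assoc]
          _ = δ s * δ s' := by rw [h1]; simp only [δ, mul_assoc])
    have hδ1 : ∀ s, δh s = 1 := by
      intro s
      have h1 : commutator (SpecialLinearGroup (Fin 2) (ZMod r)) ≤ δh.ker := by
        rw [_root_.commutator_def, Subgroup.commutator_le]
        intro a _ b _
        rw [MonoidHom.mem_ker, map_commutatorElement, commutatorElement_eq_one_iff_commute]
        exact (Subgroup.mem_center_iff.1 (hδc a) _).symm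
      exact h1 (hperf ▸ Subgroup.mem_top s)
    intro l hl
    have h2 := hδ1 (eL ⟨l, hl⟩)
    change (eL ⟨l, hl⟩)⁻¹ * eL (MulAut.conjNormal c (eL.symm (eL ⟨l, hl⟩))) = 1 at h2
    rw [inv_mul_eq_one, eL.symm_apply_apply] at h2
    have h3 : c * l * c⁻¹ = l := by
      have := congrArg (fun z : Lc => (z : Ct)) (eL.injective h2)
      simpa using this.symm
    exact mul_inv_eq_iff_eq_mul.1 h3
  have hker_fwd : ∀ c : Ct, π c = 1 → (c : Ct) ∈ K' := by
    intro c hc
    by_contra hcK
    obtain ⟨m, hm⟩ := Nat.ordCompl_dvd (orderOf c) 2 |>.imp fun a h => h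
    set c2 := c ^ (orderOf c / 2 ^ (orderOf c).factorization 2) with hc2
    have hodd : Odd (orderOf c / 2 ^ (orderOf c).factorization 2) := Nat.odd_iff.2 (by
      have := Nat.not_dvd_ordCompl Nat.prime_two (orderOf_pos c).ne'
      omega)
    have hc2K : c2 ∉ K' := by
      obtain ⟨k, hk⟩ := hodd
      rw [hc2, hk, pow_succ, Subgroup.mul_mem_iff_of_index_two hK'i]
      have : c ^ (2 * k) ∈ K' := by
        rw [pow_mul, pow_two]
        exact pow_mem (Subgroup.mul_self_mem_of_index_two hK'i c) k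
      tauto
    have hc2p : IsPGroup 2 (Subgroup.zpowers c2) := by
      refine IsPGroup.of_card (n := (orderOf c).factorization 2) ?_
      rw [Nat.card_zpowers, hc2, orderOf_pow_of_dvd
        (Nat.div_pos (Nat.ordProj_le 2 (orderOf_pos c).ne') (Nat.pos_of_ne_zero (by positivity))).ne'
        (Nat.ordCompl_dvd _ _), Nat.div_div_self (Nat.ordProj_dvd _ _) (orderOf_pos c).ne']
    -- move it into `S`
    let S' : Sylow 2 Ct := D.S.subtype D.S_le
    obtain ⟨Q, hQ⟩ := hc2p.exists_le_sylow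
    obtain ⟨g, hg⟩ := MulAction.exists_smul_eq Ct Q S'
    have hh : g * c2 * g⁻¹ ∈ (S' : Subgroup Ct) := by
      rw [← hg]
      exact Subgroup.smul_mem_pointwise_smul c2 (MulAut.conj g) _ (hQ (Subgroup.mem_zpowers c2))
    have hhK : g * c2 * g⁻¹ ∉ K' := fun h => hc2K (by
      simpa [mul_assoc] using hK'n.conj_mem _ h g⁻¹)
    have hcentL : ∀ l ∈ Lc, (g * c2 * g⁻¹) * l = l * (g * c2 * g⁻¹) := by
      intro l hl
      have h1 := hker0 c hc (g⁻¹ * l * g) (by simpa using hLcn.conj_mem l hl g⁻¹)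
      have h2 : Commute c2 (g⁻¹ * l * g) := Commute.pow_left h1 _
      calc g * c2 * g⁻¹ * l = g * (c2 * (g⁻¹ * l * g)) * g⁻¹ := by group
        _ = l * (g * c2 * g⁻¹) := by rw [h2.eq]; group
    have hSL : ∀ s : Ct, s ∈ (S' : Subgroup Ct) → s ∈ K' → s ∈ Lc := by
      intro s hs hsK
      refine ⟨⟨s, hsK⟩, (hLiff _).1 ?_, rfl⟩
      obtain ⟨j, hj⟩ := S'.isPGroup' ⟨s, hs⟩
      have hsj : s ^ 2 ^ j = 1 := congrArg Subtype.val hj
      have hd : orderOf s ∣ Nat.card L := by
        have h1 : orderOf (⟨s, hsK⟩ : K') ∣ Nat.card K' := orderOf_dvd_natCard _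
        rw [Subgroup.orderOf_mk, hcardK] at h1
        exact (Nat.Coprime.coprime_dvd_left (orderOf_dvd_of_pow_eq_one hsj)
          (Nat.Coprime.pow_left j (Nat.coprime_two_left.2 hXodd))).dvd_of_dvd_mul_left h1
      exact Subtype.ext (orderOf_dvd_iff_pow_eq_one.1 hd)
    have hmemS : ∀ w : (D.S : Subgroup G), (⟨w, D.S_le w.2⟩ : Ct) ∈ (S' : Subgroup Ct) := fun w => w.2
    have hc0 : ∀ w : (D.S : Subgroup G), (w : G) ∈ D.K →
        ((g * c2 * g⁻¹ : Ct) : G) * w = w * ((g * c2 * g⁻¹ : Ct) : G) := fun w hw =>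
      congrArg Subtype.val (hcentL _ (hSL ⟨w, D.S_le w.2⟩ (hmemS w) hw))
    let h : (D.S : Subgroup G) := ⟨((g * c2 * g⁻¹ : Ct) : G), hh⟩
    have hhx : h * D.x ^ (2 : ℤ) = D.x ^ (2 : ℤ) * h :=
      Subtype.ext (hc0 _ ((D.mem_K_x 2).2 dvd_rfl))
    have hhy : h * (D.x ^ (1 : ℤ) * D.y) = D.x ^ (1 : ℤ) * D.y * h :=
      Subtype.ext (hc0 _ ((D.mem_K_y 1).2 (by norm_num)))
    have hhK' : (h : G) ∉ D.K := hhK
    have hq := D.qd.q_pos
    rcases D.qd.cases h with ⟨i, hi⟩ | ⟨i, hi⟩
    · rw [hi] at hhy hhK'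
      rw [D.qd.mul_cy, D.qd.mul_yc, D.qd.zpow_mul_y_eq_iff] at hhy
      have hodd : ¬ 2 ∣ i := fun h => hhK' ((D.mem_K_x i).2 h)
      obtain ⟨d, hd⟩ := hhy
      obtain ⟨w, hw⟩ := D.qd.q_two_dvd
      rw [hw] at hd
      refine hodd ⟨w * i + 2 * w * d, ?_⟩
      have : (2 : ℤ) * (i - 2 * (w * i + 2 * w * d)) = 0 := by linear_combination hd
      omega
    · rw [hi] at hhx hhK'
      rw [D.qd.mul_yc, D.qd.mul_cy, D.qd.zpow_mul_y_eq_iff] at hhx
      obtain ⟨d, hd⟩ := hhx
      obtain ⟨w, hw⟩ := D.qd.q_two_dvd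
      rw [hw] at hd
      have : (4 : ℤ) * (2 * (w - w * d) - 1) = 0 := by linear_combination hd
      omega
  have hker : ∀ c : Ct, π c = 1 ↔ ∃ o ∈ D.O, (c : G) = o ∨ (c : G) = D.t * o := by
    intro c
    constructor
    · intro hc
      obtain ⟨x, hx, l, hl, hxl⟩ := hdec ⟨c, hker_fwd c hc⟩
      have hz : e ⟨l, hl⟩ ∈ Subgroup.center (SpecialLinearGroup (Fin 2) (ZMod r)) := by
        rw [Subgroup.mem_center_iff]
        intro s
        obtain ⟨⟨m, hm⟩, rfl⟩ := e.surjective s
        rw [← map_mul, ← map_mul]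
        congr 1
        have h1 := hker0 c hc (m : Ct) ⟨m, hm, rfl⟩
        have h2 : x * l * m = m * (x * l) := by rw [hxl]; exact Subtype.ext h1
        refine Subtype.ext ?_
        show m * l = l * m
        refine mul_left_cancel (a := x) ?_
        rw [← mul_assoc, ← mul_assoc, h2, hXL x hx m hm, mul_assoc]
      have ht1 : e ⟨t0, ht0L⟩ = -1 := (hS_invol _ (by
        rw [← map_mul, show (⟨t0, ht0L⟩ : L) * ⟨t0, ht0L⟩ = 1 from
          Subtype.ext (Subtype.ext ht2), map_one])).resolve_left fun h => by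
        rw [MulEquiv.map_eq_one_iff, Subtype.ext_iff, Subtype.ext_iff] at h
        exact htne h
      refine ⟨_, hXO x hx, ?_⟩
      have hcx : ((x : Ct) : G) * ((l : Ct) : G) = c := congrArg (fun w : K' => ((w : Ct) : G)) hxl
      rcases H40.eq_pm_of_scalar (H40.scalar_iff_mem_center.1 hz) with h | h
      · left
        rw [MulEquiv.map_eq_one_iff, Subtype.ext_iff] at h
        rw [← hcx, show l = 1 from h]
        simp
      · right
        have hlt : l = t0 := congrArg Subtype.val (e.injective (h.trans ht1.symm))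
        rw [← hcx, hlt]
        exact ((Subgroup.mem_centralizer_singleton_iff.1 (x : Ct).2)).symm ▸ rfl
    · rintro ⟨o, ho, hco'⟩
      obtain ⟨k, hk, rfl⟩ := hOK o ho
      have h1 : π (k : Ct) = 1 := by
        refine hι.1 ?_
        rw [hιπ, map_one]
        refine MulEquiv.ext fun z => ?_
        obtain ⟨s, rfl⟩ := H55.pmk_surjective z
        rw [hψ]
        show H55.pmk _ = H55.pmk s
        congr 1
        refine (eL.eq_symm_apply).1 (Subtype.ext ?_)
        show (k : Ct) * (eL.symm s : Ct) * (k : Ct)⁻¹ = _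
        obtain ⟨m, hm, hme⟩ := (eL.symm s).2
        rw [← hme]
        show (k : Ct) * (m : Ct) * (k : Ct)⁻¹ = m
        rw [mul_inv_eq_iff_eq_mul]
        exact congrArg Subtype.val (hXL k hk m hm)
      have h2 : π t' = 1 := by
        refine hι.1 ?_
        rw [hιπ, map_one]
        refine MulEquiv.ext fun z => ?_
        obtain ⟨s, rfl⟩ := H55.pmk_surjective z
        rw [hψ]
        show H55.pmk _ = H55.pmk s
        congr 1
        refine (eL.eq_symm_apply).1 (Subtype.ext ?_)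
        show t' * (eL.symm s : Ct) * t'⁻¹ = _
        rw [htc, mul_inv_cancel_right]
      rcases hco' with h | h
      · rw [show c = (k : Ct) from Subtype.ext h, h1]
      · rw [show c = t' * (k : Ct) from Subtype.ext h, map_mul, h2, h1, one_mul]
  have hcardker : Nat.card π.ker = 2 * Nat.card D.O := by
    have h2O : Nat.card (Fin 2 × D.O) = 2 * Nat.card D.O := by rw [Nat.card_prod, Nat.card_fin]
    rw [← h2O]
    refine (Nat.card_eq_of_bijective (fun p : Fin 2 × D.O =>
      (⟨t' ^ (p.1 : ℕ) * ⟨p.2, D.O_le p.2.2⟩, ?_⟩ : π.ker)) ⟨?_, ?_⟩).symm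
    · rw [MonoidHom.mem_ker, hker]
      obtain ⟨i, o⟩ := p
      fin_cases i
      · exact ⟨o, o.2, Or.inl (by simp)⟩
      · exact ⟨o, o.2, Or.inr (by simp [t'])⟩
    · have hne : ∀ o o' : D.O, (o : G) ≠ D.t * o' := by
        intro o o' h
        have hm : D.t ∈ D.O := by
          rw [show D.t = (o : G) * (o' : G)⁻¹ by rw [h, mul_inv_cancel_right]]
          exact mul_mem o.2 (inv_mem o'.2)
        exact Nat.not_even_iff_odd.2 D.O_odd
          (even_iff_two_dvd.2 (D.t_ord ▸ Subgroup.orderOf_dvd_natCard _ hm))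
      rintro ⟨i, o⟩ ⟨i', o'⟩ h
      have h' := congrArg (fun z : π.ker => ((z : Ct) : G)) h
      fin_cases i <;> fin_cases i' <;> simp [t'] at h' ⊢
      · exact h'
      · exact absurd h' (hne o o')
      · exact absurd h'.symm (hne o' o)
      · exact h'
    · rintro ⟨c, hc⟩
      obtain ⟨o, ho, h | h⟩ := (hker c).1 (MonoidHom.mem_ker.1 hc)
      · exact ⟨(0, ⟨o, ho⟩), Subtype.ext (Subtype.ext (by simp [h]))⟩
      · exact ⟨(1, ⟨o, ho⟩), Subtype.ext (Subtype.ext (by simp [h, t']))⟩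
  have hpgl : Nat.card PGL(2, ZMod r) = r * (r ^ 2 - 1) := by
    rw [H37.card_PGL_eq_card_SL, card_SL]
  haveI : Finite PGL(2, ZMod r) := Nat.finite_of_card_ne_zero (by
    rw [hpgl]
    have : 25 ≤ r ^ 2 := by nlinarith
    exact Nat.mul_ne_zero (by omega) (by omega))
  have hsurj : Function.Surjective π := by
    rw [← MonoidHom.range_eq_top]
    refine Subgroup.eq_top_of_card_eq _ ?_
    have h1 := π.ker.card_mul_index
    rw [Subgroup.index_ker, hcardker, hcardC] at h1
    refine Nat.eq_of_mul_eq_mul_left (show 0 < 2 * Nat.card D.O by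
      have := Nat.card_pos (α := D.O); omega) ?_
    rw [h1, hpgl]
    ring
  have hmemK : ∀ c : Ct, (c : G) ∈ D.K ↔ ∀ g : GL (Fin 2) (ZMod r),
      ProjGenLinGroup.mk g = π c → IsSquare (g : Matrix (Fin 2) (Fin 2) (ZMod r)).det := by
    intro c
    constructor
    · intro hc g hg
      obtain ⟨x, hx, l, hl, hxl⟩ := hdec ⟨c, hc⟩
      have hπc : π c = π (l : Ct) := by
        have hc' : c = (x : Ct) * (l : Ct) := (congrArg (fun w : K' => (w : Ct)) hxl).symm
        rw [hc', map_mul, (hker _).2 ⟨_, hXO x hx, Or.inl rfl⟩, one_mul]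
      rw [hπc, hπl ⟨l, ⟨l, hl, rfl⟩⟩, ProjGenLinGroup.mk_eq_mk_iff] at hg
      obtain ⟨u, hu⟩ := hg
      have := congrArg (fun w : GL (Fin 2) (ZMod r) =>
        (w : Matrix (Fin 2) (Fin 2) (ZMod r)).det) hu
      simp [det_fin_two] at this
      refine ⟨(u : ZMod r)⁻¹, ?_⟩
      have hd := (eL ⟨(l : Ct), ⟨l, hl, rfl⟩⟩).2
      rw [det_fin_two] at hd ⊢
      field_simp
      linear_combination this
    · intro h
      obtain ⟨g, hg⟩ := ProjGenLinGroup.mk_surjective (π c)
      obtain ⟨s, hs⟩ := det_sq_iff (h g hg)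
      have h1 : π c = π ((eL.symm s : Lc) : Ct) := by
        rw [hπl, eL.apply_symm_apply, hs, hg]
      obtain ⟨o, ho, hco'⟩ := (hker (c * ((eL.symm s : Lc) : Ct)⁻¹)).1
        (by rw [map_mul, map_inv, ← h1, mul_inv_cancel])
      have hlK : (((eL.symm s : Lc) : Ct) : G) ∈ D.K := by
        obtain ⟨m, -, hm⟩ := (eL.symm s).2
        rw [← hm]
        exact m.2
      have hq : (c : G) * (((eL.symm s : Lc) : Ct) : G)⁻¹ ∈ D.K := by
        rcases hco' with h' | h' <;> simp at h' <;> rw [h']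
        · exact D.O_le_K ho
        · exact mul_mem D.t_mem_K (D.O_le_K ho)
      simpa using mul_mem hq hlK
  exact ⟨⟨r, hr, hr5, π, hsurj, hker, by rw [← hLcard, ← hXcard]; exact hco.symm, hcardC, hpgl,
    hmemK, hOcomm⟩⟩

end H53.CSy
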