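import Cfsg.Agent.H53.CSy.ModelBorel

/-!
`C(t)` has the model structure.
-/

set_option autoImplicit false
set_option linter.style.haveILetI false
set_option linter.unusedSectionVars false

namespace H53.CSy

open Matrix
open scoped MatrixGroups

universe u

theorem invol_unique_cyclic {P : Type*} [Group P] [Finite P] {A : Subgroup P} (hA : IsCyclic A)
    {u v : P} (hu : u ∈ A) (hv : v ∈ A) (hu2 : u * u = 1) (hv2 : v * v = 1) (hu1 : u ≠ 1)
    (hv1 : v ≠ 1) : u = v := by
  obtain ⟨a, ha⟩ := hA.exists_generator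
  obtain ⟨i, hi⟩ := Subgroup.mem_zpowers_iff.1 (ha ⟨u, hu⟩)
  obtain ⟨j, hj⟩ := Subgroup.mem_zpowers_iff.1 (ha ⟨v, hv⟩)
  have hi' : (a : P) ^ i = u := by simpa using congrArg Subtype.val hi
  have hj' : (a : P) ^ j = v := by simpa using congrArg Subtype.val hj
  subst hi' hj'
  rw [← _root_.zpow_add, ← orderOf_dvd_iff_zpow_eq_one] at hu2 hv2
  rw [ne_eq, ← orderOf_dvd_iff_zpow_eq_one] at hu1 hv1
  rw [← orderOf_dvd_sub_iff_zpow_eq_zpow]
  rcases Nat.even_or_odd' (orderOf (a : P)) with ⟨M, hM | hM⟩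
  · obtain ⟨di, hdi⟩ := hu2
    obtain ⟨dj, hdj⟩ := hv2
    rw [hM] at hdi hdj hu1 hv1 ⊢
    push_cast at hdi hdj hu1 hv1 ⊢
    rcases Int.even_or_odd' di with ⟨e, rfl | rfl⟩
    · exact absurd ⟨e, by linarith⟩ hu1
    rcases Int.even_or_odd' dj with ⟨f, rfl | rfl⟩
    · exact absurd ⟨f, by linarith⟩ hv1
    exact ⟨e - f, by linarith⟩
  · exfalso
    refine hu1 (IsCoprime.dvd_of_dvd_mul_left (y := (2 : ℤ)) ?_ (by rwa [two_mul]))
    rw [hM]
    exact ⟨1, -(M : ℤ), by push_cast; ring⟩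

theorem model : H70.CSy.ModelStmt.{u} := by
  intro G _ _ D hns
  classical
  haveI : Fact (Nat.Prime 2) := ⟨Nat.prime_two⟩
  obtain ⟨H0⟩ := nonempty_hom D hns
  obtain ⟨H, g, hgy, hdet, hsplit⟩ : ∃ (H : Hom D) (g : GL (Fin 2) (ZMod H.r)),
      ProjGenLinGroup.mk g = H.π (sC D D.y) ∧
      ¬ IsSquare (g : Matrix (Fin 2) (Fin 2) (ZMod H.r)).det ∧
      ∀ [Fact H.r.Prime], H.r % 4 = 3 → Tor g = (dg (F := ZMod H.r)).range := by
    haveI := H0.hr
    obtain ⟨g, hgy, hdet⟩ := exists_nonsquare H0 (Hom.not_mem_K_y (D := D))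
    by_cases h4 : H0.r % 4 = 3
    · have hi : pm g * pm g = 1 := by
        show ProjGenLinGroup.mk g * ProjGenLinGroup.mk g = 1
        rw [hgy, ← map_mul, Hom.y_sq, map_one]
      obtain ⟨h, Dm, hDm, hconj⟩ := invol_conj (two_ne_zero_zmod H0.hr5)
        (by rw [Nat.card_zmod]; exact h4) hdet hi
      refine ⟨H0.twist h, Dm, ?_, ?_, fun _ => Tor_diag (two_ne_zero_zmod H0.hr5) hDm⟩
      · show ProjGenLinGroup.mk Dm = ProjGenLinGroup.mk h * H0.π (sC D D.y) * _
        rw [← hgy]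
        exact hconj.symm
      · change ¬ IsSquare (Dm : Matrix (Fin 2) (Fin 2) (ZMod H0.r)).det
        intro hs
        refine ZMod.exists_sq_eq_neg_one_iff.1 ?_ h4
        simpa [hDm, det_fin_two] using hs
    · exact ⟨H0, g, hgy, hdet, fun h => absurd h h4⟩
  haveI := H.hr
  haveI : Finite PGL(2, ZMod H.r) := Finite.of_surjective H.π H.surj
  have hr5 := H.hr5
  have hrp : H.r.Prime := H.hr.out
  have hrodd : H.r % 2 = 1 := Nat.odd_iff.1 (hrp.odd_of_ne_two (by omega))
  have hF2 := two_ne_zero_zmod hr5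
  have hπy : pm g * pm g = 1 := by
    show ProjGenLinGroup.mk g * ProjGenLinGroup.mk g = 1
    rw [hgy, ← map_mul, Hom.y_sq, map_one]
  obtain ⟨hNS, hcyc, hcardA, hAle, hcC, hinv⟩ := invol hF2 hdet hπy
  rw [Nat.card_zmod] at hcardA
  -- the numbers
  set q1 : ℕ := if H.r % 4 = 3 then H.r - 1 else H.r + 1 with hq1
  set q2 : ℕ := if H.r % 4 = 3 then H.r + 1 else H.r - 1 with hq2
  have hq12 : (q1 + 2 = q2 ∨ q2 + 2 = q1) ∧ q1 % 4 = 2 ∧ q2 % 4 = 0 ∧ q2 ≠ 0 ∧ q1 < 2 * H.r := by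
    rw [hq1, hq2]; split_ifs <;> omega
  obtain ⟨hdiff, hq1m, hq2m, hq20, hq1lt⟩ := hq12
  set η : ℤ := if H.r % 4 = 3 then 1 else -1 with hηdef
  have hη : η = 1 ∨ η = -1 := by rw [hηdef]; split_ifs <;> simp
  have hqη : (q1 : ℤ) = H.r - η ∧ (q2 : ℤ) = H.r + η := by
    rw [hq1, hq2, hηdef]; split_ifs <;> omega
  obtain ⟨T, hT⟩ : ∃ T, q1 = 2 * T := ⟨q1 / 2, by omega⟩
  have hTodd : Odd T := Nat.odd_iff.2 (by omega)
  obtain ⟨k, T', hT'2, hT'⟩ := Nat.exists_eq_pow_mul_and_not_dvd hq20 2 (by norm_num)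
  have hT'odd : Odd T' := Nat.odd_iff.2 (by omega)
  have hsq : H.r ^ 2 - 1 = q1 * q2 := by
    rw [show H.r ^ 2 - 1 = (H.r + 1) * (H.r - 1) from Nat.sq_sub_sq H.r 1, hq1, hq2]
    split_ifs <;> ring
  have hpgl : Nat.card PGL(2, ZMod H.r) = H.r * (q1 * q2) := by rw [H.card_pgl, hsq]
  have hkn : k = D.n - 1 := by
    let S' : Sylow 2 (Ct D) := D.S.subtype D.S_le
    have h1 : Nat.card S' = 2 ^ (D.n + 1) :=
      (Nat.card_congr (Subgroup.subgroupOfEquivOfLe D.S_le).toEquiv).trans D.qd.card_eq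
    have h2 := (S' : Subgroup (Ct D)).card_mul_index
    rw [show Nat.card (S' : Subgroup (Ct D)) = 2 ^ (D.n + 1) from h1, H.card_ct, hsq, hT, hT'] at h2
    have h3 : D.n + 1 = k + 2 := by
      refine two_pow_cancel (Nat.odd_iff.2 ?_) (((Nat.odd_iff.2 hrodd).mul
        (hTodd.mul hT'odd)).mul D.O_odd) (h2.trans ?_)
      · have := Sylow.not_dvd_index S'
        omega
      · rw [pow_add]; ring
    omega
  subst hkn
  have hn3 := D.qd.three_le
  have hgoodT : Good D T := H.good_of_dvd hTodd (by rw [hsq, hT]; exact ⟨2 * H.r * q2, by ring⟩)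
  have hTlt : T < H.r := by omega
  -- the torus
  obtain ⟨⟨a, haA⟩, hgen⟩ := hcyc.exists_generator
  have hao : orderOf a = q1 := by
    rw [← hcardA, ← orderOf_eq_card_of_forall_mem_zpowers hgen, Subgroup.orderOf_mk]
  have hAmem : ∀ z ∈ Tor g, ∃ i : ℤ, a ^ i = z := fun z hz => by
    obtain ⟨i, hi⟩ := Subgroup.mem_zpowers_iff.1 (hgen ⟨z, hz⟩)
    exact ⟨i, by simpa using congrArg Subtype.val hi⟩
  have ha2 : orderOf (a ^ 2) = T := by
    rw [orderOf_pow_of_dvd two_ne_zero (by rw [hao, hT]; exact dvd_mul_right 2 T), hao, hT,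
      Nat.mul_div_cancel_left _ (by norm_num)]
  obtain ⟨w1, hwπ, hwT⟩ := H.exists_lift (z := a ^ 2) hgoodT (orderOf_dvd_iff_pow_eq_one.1 ha2.dvd)
  let ι : Ct D →* G := (Subgroup.centralizer ({D.t} : Set G)).subtype
  set W : Subgroup G := (Subgroup.zpowers w1).map ι with hW
  have hwo : orderOf w1 = T := by rw [H.orderOf_lift hgoodT hwT, hwπ, ha2]
  have powW : ∀ c ∈ Subgroup.zpowers w1, c ^ T = 1 ∧ H.π c ∈ Tor g := by
    intro c hc
    obtain ⟨i, rfl⟩ := Subgroup.mem_zpowers_iff.1 hc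
    refine ⟨?_, by rw [map_zpow, hwπ]; exact zpow_mem (pow_mem haA 2) i⟩
    rw [← zpow_natCast, ← _root_.zpow_mul, mul_comm, _root_.zpow_mul, zpow_natCast, hwT,
      _root_.one_zpow]
  have memW : ∀ c : Ct D, c ^ T = 1 → H.π c ∈ Tor g → c ∈ Subgroup.zpowers w1 := by
    intro c hc hcA
    refine H.mem_zpowers_of hgoodT hwT hc ?_
    obtain ⟨i, hi⟩ := hAmem _ hcA
    have h : a ^ (i * (T : ℤ)) = 1 := by
      rw [_root_.zpow_mul, hi, zpow_natCast, ← map_pow, hc, map_one]
    rw [← orderOf_dvd_iff_zpow_eq_one, hao, hT] at h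
    push_cast at h
    obtain ⟨j, rfl⟩ := Int.dvd_of_mul_dvd_mul_right (by exact_mod_cast hTodd.pos.ne') h
    refine Subgroup.mem_zpowers_iff.2 ⟨j, ?_⟩
    rw [hwπ, ← hi, ← zpow_natCast, ← _root_.zpow_mul]
    rfl
  -- the element of order four
  have hs : ∀ u v : ↥(D.S : Subgroup G), sC D (u * v) = sC D u * sC D v := fun u v => Subtype.ext rfl
  set q := H67.qdQ D.n with hq
  set xq : Ct D := sC D (D.x ^ q) with hxq
  have hx2 : sC D (D.x ^ (2 * q)) = tC D := by
    refine Subtype.ext ?_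
    show ((D.x ^ (2 * q) : ↥(D.S : Subgroup G)) : G) = D.t
    rw [D.t_eq, hq, D.qd.two_q, SubgroupClass.coe_zpow, ← zpow_natCast (D.x : G) (2 ^ (D.n - 1))]
    push_cast
    rfl
  have hyxq : sC D D.y * xq * (sC D D.y)⁻¹ = xq * tC D := by
    rw [mul_inv_eq_iff_eq_mul, hxq, ← hx2, ← hs, ← hs, ← hs, D.qd.y_mul_zpow, D.qd.mul_cc]
    congr 2
    obtain ⟨w, hw⟩ := D.qd.q_two_dvd
    refine D.qd.zpow_x_congr (w - 1) ?_
    rw [hq, hw]; ring
  have hty : xq * sC D D.y * xq⁻¹ = tC D * sC D D.y := by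
    have hti : (tC D)⁻¹ = tC D := inv_eq_of_mul_eq_one_right (Subtype.ext
      (show D.t * D.t = 1 by rw [← pow_two, ← D.t_ord, pow_orderOf_eq_one]))
    calc xq * sC D D.y * xq⁻¹ = xq * (sC D D.y * xq * (sC D D.y)⁻¹)⁻¹ * sC D D.y := by group
      _ = _ := by rw [hyxq, ← tC_comm xq, _root_.mul_inv_rev, mul_inv_cancel_left, hti]
  have hπxq2 : H.π xq * H.π xq = 1 := by
    rw [← map_mul, hxq, ← hs, D.qd.mul_cc, ← two_mul, hx2, H.pi_t]
  have hπxq1 : H.π xq ≠ 1 := by
    intro h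
    have h1 := H.ker_pow h
    have h2 : D.x ^ (q * (2 * Nat.card D.O : ℕ)) = 1 := by
      refine Subtype.ext ?_
      rw [_root_.zpow_mul, zpow_natCast]
      exact congrArg (fun z : Ct D => (z : G)) h1
    rw [D.qd.zpow_x_eq_one_iff, mul_comm (4 : ℤ)] at h2
    have hq0 : q ≠ 0 := by have := D.qd.q_pos; omega
    have h3 : (4 : ℤ) ∣ ((2 * Nat.card D.O : ℕ) : ℤ) := Int.dvd_of_mul_dvd_mul_left hq0 h2
    have h4 := Nat.odd_iff.1 D.O_odd
    omega
  have hπxqy : Commute (H.π (sC D D.y)) (H.π xq) := by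
    have h := congrArg H.π hyxq
    rw [map_mul, map_mul, map_inv, map_mul, H.pi_t, mul_one] at h
    exact mul_inv_eq_iff_eq_mul.1 h
  have hyA : H.π (sC D D.y) ∈ Tor g := hgy ▸ self_mem_Tor g
  have hy1 : H.π (sC D D.y) ≠ 1 := fun h => Hom.not_mem_K_y (D := D) (H.ker_mem_K h)
  have hxqA : H.π xq ∉ Tor g := by
    intro h
    have e := invol_unique_cyclic hcyc h hyA hπxq2 (by rw [← map_mul, Hom.y_sq, map_one]) hπxq1 hy1
    have h1 := H.ker_mem_K (c := sC D D.y * xq⁻¹) (by rw [map_mul, map_inv, e, mul_inv_cancel])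
    have h2 : (xq : G) ∈ D.K := (D.mem_K_x q).2 D.qd.q_two_dvd
    refine Hom.not_mem_K_y (D := D) ?_
    have := mul_mem h1 h2
    simpa using this
  have hcentW : ∀ d : Ct D, d ∈ Subgroup.zpowers w1 → d ≠ 1 →
      Subgroup.centralizer {H.π d} = Tor g := fun d hd hd1 =>
    centralizer_eq_of_mem hF2 hNS (powW d hd).2 (fun h => hd1 (H.eq_one hgoodT (powW d hd).1 h))
      (Odd.of_dvd_nat hTodd (orderOf_dvd_of_pow_eq_one (by rw [← map_pow, (powW d hd).1, map_one])))
  refine ⟨{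
    r := H.r, hr := hrp, hr5 := hr5, η := η, hη := hη, T := T, T' := T'
    hT := by rw [← hqη.1, hT]; push_cast; rfl
    hT' := by rw [← hqη.2, hT']; push_cast; rfl
    T_odd := hTodd, T'_odd := hT'odd, r_O := H.r_O, card_ct := H.card_ct
    W := W
    W_cyc := ?W_cyc
    card_W := ?card_W
    W_le := ?W_le
    W_ty := ?W_ty
    W_O := ?W_O
    W_inv := ?W_inv
    card_cty := ?card_cty
    cent_W := ?cent_W
    W_conj := ?W_conj
    cent_T' := ?cent_T'
    borel := ?borel }⟩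
  case W_cyc =>
    exact isCyclic_of_surjective _
      ((Subgroup.zpowers w1).equivMapOfInjective ι (Subgroup.subtype_injective _)).surjective
  case card_W =>
    rw [hW, Subgroup.card_map_of_injective (Subgroup.subtype_injective _), Nat.card_zpowers, hwo]
  case W_le =>
    rintro _ ⟨w, hw, rfl⟩
    exact mem_K_of_odd hTodd (powW w hw).1
  case W_ty =>
    rintro _ ⟨w, hw, rfl⟩
    exact congrArg Subtype.val ((H.commute_iff hgoodT (powW w hw).1 (g := sC D D.y)).2
      (Subgroup.mem_centralizer_singleton_iff.1 (hgy ▸ hAle (powW w hw).2)).symm).eq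
  case W_O =>
    rintro _ ⟨w, hw, rfl⟩ o ho
    exact H.O_comm _ (mem_K_of_odd hTodd (powW w hw).1) o ho
  case W_inv =>
    rintro _ ⟨w, hw, rfl⟩
    refine congrArg Subtype.val (H.conj_eq (g := sC D (D.x ^ q * D.y)) hgoodT (powW w hw).1
      (e := w⁻¹) (by rw [inv_pow, (powW w hw).1, inv_one]) ?_)
    rw [map_inv]
    refine hinv _ ?_ ?_ _ (powW w hw).2
    · rw [Subgroup.mem_centralizer_singleton_iff, hs, map_mul]
      show _ * ProjGenLinGroup.mk g = ProjGenLinGroup.mk g * _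
      rw [hgy]
      exact ((hπxqy.mul_right (Commute.refl _)).symm).eq
    · rw [hs, map_mul]
      exact fun h => hxqA (((Tor g).mul_mem_cancel_right hyA).1 h)
  case card_cty =>
    set N : Subgroup (Ct D) := (Subgroup.centralizer {H.π (sC D D.y)}).comap H.π with hN
    have hNcard : Nat.card N = 2 * Nat.card D.O * (4 * T) := by
      rw [hN, H.card_comap, show H.π (sC D D.y) = pm g from hgy.symm, hcC, hcardA, hT]
      ring
    have hkcard : Nat.card H.π.ker = 2 * Nat.card D.O := by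
      rw [← MonoidHom.comap_bot, H.card_comap, Subgroup.card_bot, mul_one]
    have hf : ∀ c : N, ((c : Ct D) * sC D D.y * (c : Ct D)⁻¹ * (sC D D.y)⁻¹) ∈ H.π.ker := by
      intro c
      rw [MonoidHom.mem_ker, map_mul, map_mul, map_mul, map_inv, map_inv, mul_inv_eq_one,
        mul_inv_eq_iff_eq_mul]
      exact Subgroup.mem_centralizer_singleton_iff.1 c.2
    have hsec : ∀ z : H.π.ker, ∃ c : N,
        (c : Ct D) * sC D D.y * (c : Ct D)⁻¹ * (sC D D.y)⁻¹ = z := by
      rintro ⟨z, hz⟩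
      obtain ⟨o, ho, e⟩ := (H.ker z).1 hz
      obtain ⟨k, hk⟩ := D.O_odd
      have hroot : o ^ (k + 1) * o ^ (k + 1) = o := by
        rw [← pow_add, show k + 1 + (k + 1) = Nat.card D.O + 1 by omega, pow_succ,
          show o ^ Nat.card D.O = 1 from
            congrArg Subtype.val (pow_card_eq_one' (x := (⟨o, ho⟩ : D.O))), one_mul]
      let o' : Ct D := ⟨o ^ (k + 1), D.O_le (pow_mem ho _)⟩
      have hπo : H.π o' = 1 := (H.ker o').2 ⟨_, pow_mem ho (k + 1), Or.inl rfl⟩
      have h1 : o' * sC D D.y * o'⁻¹ * (sC D D.y)⁻¹ = o' * o' := by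
        rw [mul_assoc o', mul_assoc o', Hom.y_conj_of_O (o := o'⁻¹) (inv_mem (pow_mem ho _)),
          inv_inv]
      rcases e with e | e
      · exact ⟨⟨o', by rw [hN, Subgroup.mem_comap, hπo]; exact one_mem _⟩,
          h1.trans (Subtype.ext (hroot.trans e.symm))⟩
      · refine ⟨⟨o' * xq, ?_⟩, ?_⟩
        · rw [hN, Subgroup.mem_comap, map_mul, hπo, one_mul,
            Subgroup.mem_centralizer_singleton_iff]
          exact hπxqy.symm.eq
        · show o' * xq * sC D D.y * (o' * xq)⁻¹ * (sC D D.y)⁻¹ = z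
          calc o' * xq * sC D D.y * (o' * xq)⁻¹ * (sC D D.y)⁻¹
              = o' * (xq * sC D D.y * xq⁻¹) * o'⁻¹ * (sC D D.y)⁻¹ := by group
            _ = o' * tC D * sC D D.y * o'⁻¹ * (sC D D.y)⁻¹ := by rw [hty, ← mul_assoc o']
            _ = tC D * (o' * sC D D.y * o'⁻¹ * (sC D D.y)⁻¹) := by
                rw [← tC_comm o']; group
            _ = z := by
                rw [h1]
                refine Subtype.ext ?_
                show D.t * (o ^ (k + 1) * o ^ (k + 1)) = (z : G)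
                rw [hroot, e]
    choose s hs' using hsec
    have hmem : ∀ x : Subgroup.centralizer ({D.t, (D.y : G)} : Set G),
        ∃ c : N, (((c : Ct D)) : G) = x := by
      rintro ⟨x, hx⟩
      rw [Subgroup.mem_centralizer_iff] at hx
      refine ⟨⟨⟨x, Subgroup.mem_centralizer_singleton_iff.2 (hx _ (Or.inl rfl)).symm⟩, ?_⟩, rfl⟩
      rw [hN, Subgroup.mem_comap, Subgroup.mem_centralizer_singleton_iff, ← map_mul, ← map_mul]
      exact congrArg H.π (Subtype.ext (hx _ (Or.inr rfl)).symm)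
    choose emb hemb using hmem
    refine Nat.eq_of_mul_eq_mul_left (show 0 < 2 * Nat.card D.O by
      have := Nat.card_pos (α := D.O); omega) ?_
    rw [← hNcard, ← hkcard, ← Nat.card_prod]
    refine Nat.card_eq_of_bijective (fun p => s p.1 * emb p.2) ⟨?_, ?_⟩
    · rintro ⟨z, c⟩ ⟨z', c'⟩ h
      have hcy : ∀ x, (emb x : Ct D) * sC D D.y * (emb x : Ct D)⁻¹ = sC D D.y := fun x =>
        mul_inv_eq_iff_eq_mul.2 (Subtype.ext (by
          show ((emb x : Ct D) : G) * (D.y : G) = (D.y : G) * ((emb x : Ct D) : G)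
          rw [hemb]
          exact ((Subgroup.mem_centralizer_iff.1 x.2) _ (Or.inr rfl)).symm))
      have key : ∀ (z : H.π.ker) x, ((s z * emb x : N) : Ct D) * sC D D.y *
          ((s z * emb x : N) : Ct D)⁻¹ * (sC D D.y)⁻¹ = z := fun z x => by
        conv_rhs => rw [← hs' z]
        congr 1
        calc _ = (s z : Ct D) * ((emb x : Ct D) * sC D D.y * (emb x : Ct D)⁻¹) * (s z : Ct D)⁻¹ := by
              push_cast; group
          _ = _ := by rw [hcy]
      simp only at h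
      have hz : z = z' := Subtype.ext ((key z c).symm.trans (h ▸ key z' c'))
      subst hz
      rw [mul_right_inj] at h
      exact Prod.ext rfl (Subtype.ext (by rw [← hemb c, ← hemb c', h]))
    · intro c
      have hc' : ((s ⟨_, hf c⟩)⁻¹ * c : N).1 * sC D D.y *
          (((s ⟨_, hf c⟩)⁻¹ * c : N).1)⁻¹ = sC D D.y := by
        have h := hs' ⟨_, hf c⟩
        simp only [mul_left_inj] at h
        calc _ = (s ⟨_, hf c⟩ : Ct D)⁻¹ * ((c : Ct D) * sC D D.y * (c : Ct D)⁻¹) *
              (s ⟨_, hf c⟩ : Ct D) := by push_cast; group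
          _ = (s ⟨_, hf c⟩ : Ct D)⁻¹ * ((s ⟨_, hf c⟩ : Ct D) * sC D D.y *
              (s ⟨_, hf c⟩ : Ct D)⁻¹) * (s ⟨_, hf c⟩ : Ct D) := congrArg (fun z => (s ⟨_, hf c⟩ : Ct D)⁻¹ * z * (s ⟨_, hf c⟩ : Ct D)) h.symm
          _ = _ := by group
      refine ⟨(⟨_, hf c⟩, ⟨((((s ⟨_, hf c⟩)⁻¹ * c : N) : Ct D) : G), ?_⟩), ?_⟩
      · rw [Subgroup.mem_centralizer_iff]
        rintro z (rfl | rfl)
        · exact (coe_commute_t _).eq.symm
        · exact (congrArg Subtype.val (mul_inv_eq_iff_eq_mul.1 hc')).symm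
      · show s _ * emb _ = c
        rw [show emb _ = (s ⟨_, hf c⟩)⁻¹ * c from Subtype.ext (Subtype.ext (hemb _)),
          mul_inv_cancel_left]
  case cent_W =>
    rintro _ ⟨d, hd, rfl⟩ hd1
    have hd1' : d ≠ 1 := fun h => hd1 (by rw [h, map_one])
    show Nat.card (Subgroup.centralizer ({D.t, (d : G)} : Set G)) = _
    rw [H.card_cent hgoodT (powW d hd).1, hcentW d hd hd1', hcardA, hT]
    ring
  case W_conj =>
    intro d hd hp hpT
    set dC : Ct D := ⟨d, hd⟩
    have hdT : dC ^ T = 1 := orderOf_dvd_iff_pow_eq_one.1 (by rw [← Subgroup.orderOf_coe]; exact hpT)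
    have hpo : orderOf (H.π dC) = orderOf d := by
      rw [← H.orderOf_lift hgoodT hdT, ← Subgroup.orderOf_coe]
    have hidx : ¬ orderOf d ∣ (Tor g).index := by
      have h1 := (Tor g).card_mul_index
      rw [hcardA, hpgl] at h1
      have h2 : (Tor g).index = H.r * q2 := by
        refine Nat.eq_of_mul_eq_mul_left (show 0 < q1 by omega) (h1.trans ?_)
        ring
      rw [h2]
      have hple := Nat.le_of_dvd hTodd.pos hpT
      refine hp.not_dvd_mul (fun h => ?_) (fun h => ?_)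
      · have := (Nat.prime_dvd_prime_iff_eq hp hrp).1 h
        omega
      · have h3 : orderOf d ∣ q1 := hT ▸ hpT.mul_left 2
        have h4 : orderOf d ∣ 2 := by
          rcases hdiff with e | e
          · exact (Nat.dvd_add_right h3).1 (e ▸ h)
          · exact (Nat.dvd_add_right h).1 (e ▸ h3)
        have h5 := (Nat.prime_dvd_prime_iff_eq hp Nat.prime_two).1 h4
        rw [h5] at hpT
        exact Nat.not_even_iff_odd.2 hTodd (even_iff_two_dvd.2 hpT)
    obtain ⟨z, hz⟩ := exists_conj_mem hp hidx hpo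
    obtain ⟨gC, rfl⟩ := H.surj z
    refine ⟨gC, gC.2, ⟨gC * dC * gC⁻¹, memW _ ?_ ?_, rfl⟩⟩
    · rw [conj_pow, hdT, mul_one, mul_inv_cancel]
    · rwa [map_mul, map_mul, map_inv]
  case cent_T' =>
    intro d hd hp hpT
    set dC : Ct D := ⟨d, hd⟩
    have hpodd : Odd (orderOf d) := Odd.of_dvd_nat hT'odd hpT
    have hpq2 : orderOf d ∣ q2 := hT' ▸ hpT.mul_left _
    have hgood : Good D (orderOf d) := H.good_of_dvd hpodd (by
      rw [hsq]; exact (hpq2.mul_left q1).mul_left H.r)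
    have hdp : dC ^ orderOf d = 1 := Subtype.ext (by simp [dC, pow_orderOf_eq_one])
    have hπo : orderOf (H.π dC) = orderOf d := by
      rw [← H.orderOf_lift hgood hdp, ← Subgroup.orderOf_coe]
    have hπ1 : H.π dC ≠ 1 := fun h => hp.ne_one (by rw [← hπo, h, orderOf_one])
    have hpr : orderOf d ≠ H.r := fun h => by
      have := Nat.le_of_dvd (Nat.pos_of_ne_zero hq20) (h ▸ hpq2)
      have h3 : q2 = H.r - 1 ∨ q2 = H.r + 1 := by rw [hq2]; split_ifs <;> simp
      rcases h3 with h3 | h3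
      · omega
      · obtain ⟨c, hc⟩ := h3 ▸ h ▸ hpq2
        rcases c with _ | _ | c
        · omega
        · omega
        · nlinarith
    obtain ⟨hcyc', hcard', hh, hhinv⟩ := torus hF2 hπ1 (hπo ▸ hpodd) (by
      rw [hπo, Nat.card_zmod]; exact (Nat.coprime_primes hp hrp).2 hpr)
    have hcard2 : Nat.card (Subgroup.centralizer {H.π dC}) = q2 := by
      have hdvd : orderOf (H.π dC) ∣ Nat.card (Subgroup.centralizer {H.π dC}) :=
        Subgroup.orderOf_dvd_natCard _ (Subgroup.mem_centralizer_singleton_iff.2 rfl)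
      rw [hπo] at hdvd
      have hnq1 : ¬ orderOf d ∣ q1 := by
        intro h3
        have h4 : orderOf d ∣ 2 := by
          rcases hdiff with e | e
          · exact (Nat.dvd_add_right h3).1 (e ▸ hpq2)
          · exact (Nat.dvd_add_right hpq2).1 (e ▸ h3)
        have h5 := (Nat.prime_dvd_prime_iff_eq hp Nat.prime_two).1 h4
        rw [h5] at hpodd
        exact Nat.not_even_iff_odd.2 hpodd even_two
      rw [Nat.card_zmod] at hcard'
      have hqq : (q1 = H.r - 1 ∧ q2 = H.r + 1) ∨ (q1 = H.r + 1 ∧ q2 = H.r - 1) := by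
        rw [hq1, hq2]; split_ifs <;> simp
      rcases hcard' with e | e <;> rcases hqq with ⟨e1, e2⟩ | ⟨e1, e2⟩ <;> rw [e] at hdvd
      · exact absurd (e1 ▸ hdvd) hnq1
      · rw [e, e2]
      · rw [e, e2]
      · exact absurd (e1 ▸ hdvd) hnq1
    refine ⟨?_, ?_⟩
    · show Nat.card (Subgroup.centralizer ({D.t, (dC : G)} : Set G)) = _
      rw [H.card_cent hgood hdp, hcard2, hT', show 2 ^ D.n = 2 * 2 ^ (D.n - 1) by
        rw [← pow_succ']; congr 1; omega]
      ring
    obtain ⟨⟨a', ha'⟩, hgen'⟩ := hcyc'.exists_generator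
    have ha'o : orderOf a' = q2 := by
      rw [← hcard2, ← orderOf_eq_card_of_forall_mem_zpowers hgen', Subgroup.orderOf_mk]
    obtain ⟨c0, hc0⟩ := H.surj a'
    obtain ⟨e, he⟩ : ∃ e, D.n = e + 3 := ⟨D.n - 3, by omega⟩
    set c : Ct D := c0 ^ (T' * Nat.card D.O) with hc
    have hπc : orderOf (H.π c) = 2 ^ (e + 2) := by
      have h1 : orderOf (a' ^ T') = 2 ^ (e + 2) := by
        rw [orderOf_pow_of_dvd hT'odd.pos.ne' (by rw [ha'o, hT']; exact dvd_mul_left _ _), ha'o,
          hT', Nat.mul_div_cancel _ hT'odd.pos, show D.n - 1 = e + 2 by omega]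
      rw [hc, map_pow, hc0, pow_mul, Nat.Coprime.orderOf_pow, h1]
      rw [h1]
      exact Nat.Coprime.pow_left _ (Nat.coprime_two_left.2 D.O_odd)
    have hcn : c ^ 2 ^ (e + 3) = 1 := by
      have h1 : H.π (c0 ^ q2) = 1 := by rw [map_pow, hc0, ← ha'o, pow_orderOf_eq_one]
      rw [hc, ← pow_mul, show T' * Nat.card D.O * 2 ^ (e + 3) = q2 * (2 * Nat.card D.O) by
        rw [hT', show D.n - 1 = e + 2 by omega, pow_succ 2 (e + 2)]; ring, pow_mul, H.ker_pow h1]
    have hπcC : H.π c ∈ Subgroup.centralizer {H.π dC} := by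
      rw [hc, map_pow, hc0]
      exact pow_mem ha' _
    refine ⟨⟨(c : G), coe_commute_t c, ?_, ?_⟩, ?_⟩
    · exact congrArg Subtype.val ((H.commute_iff hgood hdp).2
        (Subgroup.mem_centralizer_singleton_iff.1 hπcC)).eq
    · rw [Subgroup.orderOf_coe, H.orderOf_two_elt hπc hcn, he]
    -- an involution inverting `d`
    let E : Subgroup PGL(2, ZMod H.r) :=
      { carrier := {z | z * H.π dC * z⁻¹ = H.π dC ∨ z * H.π dC * z⁻¹ = (H.π dC)⁻¹}
        one_mem' := Or.inl (by simp)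
        mul_mem' := by
          rintro z z' hz hz'
          have e : z * z' * H.π dC * (z * z')⁻¹ = z * (z' * H.π dC * z'⁻¹) * z⁻¹ := by group
          show _ ∨ _
          rw [e]
          rcases hz' with h | h <;> rw [h]
          · exact hz
          · rw [← conj_inv]
            rcases hz with h' | h' <;> rw [h']
            · exact Or.inr rfl
            · exact Or.inl (inv_inv _)
        inv_mem' := by
          rintro z (h | h)
          · refine Or.inl ?_
            nth_rw 1 [← h]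
            group
          · refine Or.inr ?_
            have h2 : z * (H.π dC)⁻¹ * z⁻¹ = H.π dC := by rw [← conj_inv, h, inv_inv]
            calc _ = z⁻¹ * (z * (H.π dC)⁻¹ * z⁻¹) * z := by rw [h2, inv_inv]
              _ = _ := by group }
    have hCE : Subgroup.centralizer {H.π dC} ≤ E := fun z hz =>
      Or.inl (mul_inv_eq_iff_eq_mul.2 (Subgroup.mem_centralizer_singleton_iff.1 hz))
    have hne : (H.π dC)⁻¹ ≠ H.π dC := by
      intro h
      have h1 : orderOf (H.π dC) ∣ 2 := by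
        refine orderOf_dvd_of_pow_eq_one ?_
        rw [pow_two]
        nth_rw 1 [← h]
        exact inv_mul_cancel _
      have h5 := (Nat.prime_dvd_prime_iff_eq hp Nat.prime_two).1 (hπo ▸ h1)
      rw [h5] at hpodd
      exact Nat.not_even_iff_odd.2 hpodd even_two
    have hhd : hh * H.π dC * hh⁻¹ = (H.π dC)⁻¹ :=
      hhinv _ (Subgroup.mem_centralizer_singleton_iff.2 rfl)
    have hEcard : Nat.card E = 2 * q2 := by
      rw [← ((Subgroup.centralizer {H.π dC}).subgroupOf E).card_mul_index,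
        Nat.card_congr (Subgroup.subgroupOfEquivOfLe hCE).toEquiv, hcard2, mul_comm]
      congr 1
      rw [Subgroup.index_eq_two_iff]
      refine ⟨⟨hh, Or.inr hhd⟩, fun b => ?_⟩
      have hmem : ∀ z : PGL(2, ZMod H.r), z ∈ Subgroup.centralizer {H.π dC} ↔
          z * H.π dC * z⁻¹ = H.π dC := fun z => by
        rw [Subgroup.mem_centralizer_singleton_iff, mul_inv_eq_iff_eq_mul]
      have e : (b : PGL(2, ZMod H.r)) * hh * H.π dC * ((b : PGL(2, ZMod H.r)) * hh)⁻¹ =
          ((b : PGL(2, ZMod H.r)) * H.π dC * (b : PGL(2, ZMod H.r))⁻¹)⁻¹ := by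
        rw [show (b : PGL(2, ZMod H.r)) * hh * H.π dC * ((b : PGL(2, ZMod H.r)) * hh)⁻¹ =
          (b : PGL(2, ZMod H.r)) * (hh * H.π dC * hh⁻¹) * (b : PGL(2, ZMod H.r))⁻¹ by group, hhd,
          conj_inv]
      simp only [Subgroup.mem_subgroupOf, Subgroup.coe_mul, hmem, e]
      rcases b.2 with h | h
      · exact Or.inr ⟨h, by rw [h]; exact hne⟩
      · exact Or.inl ⟨by rw [h, inv_inv], by rw [h]; exact hne⟩
    have hidx : ¬ 2 ∣ (E.comap H.π).index := by
      rw [Subgroup.index_comap_of_surjective _ H.surj]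
      have h1 := E.card_mul_index
      rw [hEcard, hpgl, hT] at h1
      have h2 : E.index = H.r * T := by
        refine Nat.eq_of_mul_eq_mul_left (show 0 < 2 * q2 by omega) (h1.trans ?_)
        ring
      rw [h2]
      exact fun h => Nat.not_even_iff_odd.2 ((Nat.odd_iff.2 hrodd).mul hTodd) (even_iff_two_dvd.2 h)
    have hyo : orderOf (sC D D.y) = 2 := by
      rw [← Subgroup.orderOf_coe]
      show orderOf ((D.y : ↥(D.S : Subgroup G)) : G) = 2
      rw [Subgroup.orderOf_coe, D.qd.ordy]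
    obtain ⟨gC, hgC⟩ := exists_conj_mem Nat.prime_two hidx hyo
    set j : Ct D := gC * sC D D.y * gC⁻¹ with hj
    have hjK : (j : G) ∉ D.K := fun h => Hom.not_mem_K_y (D := D) (by
      have h1 := (Subgroup.mem_normalizer_iff.1 (D.K_norm gC⁻¹.2) _).1 h
      have e : ((gC⁻¹ : Ct D) : G) * (j : G) * ((gC⁻¹ : Ct D) : G)⁻¹ = (sC D D.y : G) := by
        rw [hj]; push_cast; group
      rwa [← e])
    have hj2 : j * j = 1 := by
      rw [hj]
      calc _ = gC * (sC D D.y * sC D D.y) * gC⁻¹ := by group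
        _ = 1 := by rw [Hom.y_sq, mul_one, mul_inv_cancel]
    refine ⟨(j : G), ?_, fun h => hjK (by rw [h]; exact D.t_mem_K), coe_commute_t j, ?_⟩
    · rw [Subgroup.orderOf_coe]
      exact orderOf_eq_prime (by rw [pow_two, hj2]) fun h => hjK (by rw [h]; exact one_mem _)
    rcases (hgC : H.π j ∈ E) with h | h
    · exfalso
      have hjC : H.π j ∈ Subgroup.centralizer {H.π dC} :=
        Subgroup.mem_centralizer_singleton_iff.2 (mul_inv_eq_iff_eq_mul.1 h)
      have hc2 : orderOf (H.π (c ^ 2 ^ (e + 1))) = 2 := by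
        rw [map_pow, orderOf_pow_of_dvd (by positivity)
          (by rw [hπc]; exact pow_dvd_pow 2 (by omega)), hπc, Nat.pow_div (by omega) (by norm_num)]
        simp
      have hcc : H.π j = H.π (c ^ 2 ^ (e + 1)) := by
        refine invol_unique_cyclic hcyc' hjC (by rw [map_pow]; exact pow_mem hπcC _)
          (by rw [← map_mul, hj2, map_one]) ?_ (fun h' => hjK (H.ker_mem_K h')) ?_
        · rw [← pow_two]
          have hx := pow_orderOf_eq_one (H.π (c ^ 2 ^ (e + 1)))
          rw [hc2] at hx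
          exact hx
        · intro h'
          rw [h', orderOf_one] at hc2
          omega
      have h1 := H.ker_mem_K (c := j * (c ^ 2 ^ (e + 1))⁻¹)
        (by rw [map_mul, map_inv, hcc, mul_inv_cancel])
      have h2 : ((c ^ 2 ^ (e + 1) : Ct D) : G) ∈ D.K := by
        rw [pow_succ, mul_two, pow_add]
        exact sq_mem_K _
      refine hjK ?_
      have := mul_mem h1 h2
      simpa using this
    · exact congrArg Subtype.val (H.conj_eq hgood hdp (e := dC⁻¹)
        (by rw [inv_pow, hdp, inv_one]) (by rw [map_inv]; exact h))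
  case borel =>
    intro hO
    have hη1 : η = 1 → H.r % 4 = 3 := fun h => by
      by_contra h4
      rw [hηdef, if_neg h4] at h
      omega
    have key : ∀ (m0 j : ℕ), H.r - 1 = 2 ^ j * m0 → Odd m0 → 1 ≤ j → (η = 1 → m0 = T) →
        (η = -1 → m0 = T' ∧ 2 ≤ j) → H70.CSy.Borel D.t W H.r T T' η := by
      intro m0 j h1 h2 h3 h4 h5
      refine (borel H hO hη h1 h2 h3 (fun h => ⟨h4 h, ?_, fun x => ?_⟩) h5).some
      · rw [← hsplit (hη1 h)]
        exact hyA
      · rw [← hsplit (hη1 h)]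
        constructor
        · rintro ⟨c, hc, rfl⟩
          exact ⟨c, rfl, (powW c hc).2, (powW c hc).1⟩
        · rintro ⟨c, rfl, hcA, hcT⟩
          exact ⟨c, memW c hcT hcA, rfl⟩
    by_cases h4 : H.r % 4 = 3
    · exact key T 1 (by rw [pow_one, ← hT, hq1, if_pos h4]) hTodd le_rfl (fun _ => rfl)
        (fun h => absurd h (by rw [hηdef, if_pos h4]; norm_num))
    · exact key T' (D.n - 1) (by rw [← hT', hq2, if_neg h4]) hT'odd (by omega)
        (fun h => absurd h (by rw [hηdef, if_neg h4]; norm_num)) (fun _ => ⟨rfl, by omega⟩)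

end H53.CSy
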