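import Cfsg.Agent.H53.CSy.Tori
import Cfsg.Agent.H37.Line

/-!
Tori and the Borel subgroup of `PGL₂(q)`, `q` odd.
-/

set_option autoImplicit false
set_option linter.style.haveILetI false
set_option linter.unusedSectionVars false

namespace H53.CSy

open Matrix MulAction
open scoped MatrixGroups LinearAlgebra.Projectivization

variable {F : Type*} [Field F]

local notation "M2" => Matrix (Fin 2) (Fin 2) F

theorem det_sq_of_pow_two {g : GL (Fin 2) F} (hg : NS g) (h2 : pm g * pm g = 1) :
    (g : M2).trace = 0 := by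
  rw [← map_mul, pm_eq_one_iff, Units.val_mul, sq_eq] at h2
  by_contra ht
  obtain ⟨h01, h10, h00⟩ := h2
  refine hg ⟨?_, ?_, ?_⟩
  · simpa [ht] using h01
  · simpa [ht] using h10
  · simp at h00
    exact h00.resolve_right ht

theorem NS_of_ne_one {g : GL (Fin 2) F} (h : pm g ≠ 1) : NS g := fun hs => h (pm_eq_one_iff.2 hs)

theorem discr_ne_zero [Finite F] (h2 : (2 : F) ≠ 0) {g : GL (Fin 2) F} (h1 : pm g ≠ 1)
    (hco : (orderOf (pm g)).Coprime (Nat.card F)) :
    (g : M2).trace ^ 2 - 4 * (g : M2).det ≠ 0 := by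
  intro hd
  have hc := card_Tor_zero h2 (NS_of_ne_one h1) hd
  have h := Subgroup.orderOf_dvd_natCard _ (self_mem_Tor g)
  rw [hc] at h
  exact h1 (orderOf_eq_one_iff.1 (hco.eq_one_of_dvd h))

theorem trace_ne_zero {g : GL (Fin 2) F} (h1 : pm g ≠ 1) (hodd : Odd (orderOf (pm g))) :
    (g : M2).trace ≠ 0 := by
  intro ht
  have h2 : pm g * pm g = 1 := by
    rw [← map_mul, pm_eq_one_iff, Units.val_mul, sq_eq, ht]
    simp [H40.IsScalar2]
  have hdvd : orderOf (pm g) ∣ 2 := orderOf_dvd_of_pow_eq_one (by rw [pow_two]; exact h2)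
  rcases (Nat.dvd_prime Nat.prime_two).1 hdvd with e | e
  · exact h1 (orderOf_eq_one_iff.1 e)
  · exact (Nat.not_even_iff_odd.2 hodd) (by rw [e]; exact even_two)

section Fin

variable [Finite F]

/-- The centraliser of an element of order prime to `2q`. -/
theorem torus (h2 : (2 : F) ≠ 0) {d : PGL(2, F)} (h1 : d ≠ 1) (hodd : Odd (orderOf d))
    (hco : (orderOf d).Coprime (Nat.card F)) :
    IsCyclic (Subgroup.centralizer {d}) ∧
      (Nat.card (Subgroup.centralizer {d}) = Nat.card F - 1 ∨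
        Nat.card (Subgroup.centralizer {d}) = Nat.card F + 1) ∧
      ∃ h : PGL(2, F), ∀ x ∈ Subgroup.centralizer {d}, h * x * h⁻¹ = x⁻¹ := by
  obtain ⟨g, rfl⟩ := ProjGenLinGroup.mk_surjective d
  have hd := discr_ne_zero h2 h1 hco
  have hg := NS_of_ne_one h1
  rw [centralizer_le_Tor (trace_ne_zero h1 hodd) h2]
  refine ⟨isCyclic_Tor h2 hg hd, ?_, ?_⟩
  · by_cases hs : IsSquare ((g : M2).trace ^ 2 - 4 * (g : M2).det)
    · obtain ⟨s, hs⟩ := hs
      exact Or.inl (card_Tor_split h2 hg (fun h => hd (by rw [hs, h, mul_zero])) hs.symm)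
    · exact Or.inr (card_Tor_nonsplit h2 hg hs)
  · obtain ⟨h, hh⟩ := exists_inverter hg
    exact ⟨pm h, fun x hx => inv_of_adj hg hh hx⟩

theorem centralizer_eq_of_mem (h2 : (2 : F) ≠ 0) {g : GL (Fin 2) F} (hg : NS g) {x : PGL(2, F)}
    (hx : x ∈ Tor g) (h1 : x ≠ 1) (hodd : Odd (orderOf x)) :
    Subgroup.centralizer {x} = Tor g := by
  obtain ⟨z, hz, rfl⟩ := mem_Tor.1 hx
  rw [centralizer_le_Tor (trace_ne_zero h1 hodd) h2, Tor_eq hg hz (NS_of_ne_one h1)]

theorem isSquare_neg_of_not {d : F} (h2 : (2 : F) ≠ 0) (hd : ¬ IsSquare d) :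
    IsSquare (-d) ↔ Nat.card F % 4 = 3 := by
  classical
  haveI := Fintype.ofFinite F
  have h0 : d ≠ 0 := fun h => hd (h ▸ IsSquare.zero)
  rw [Nat.card_eq_fintype_card]
  have hn : (-1 : F) ≠ 0 := neg_ne_zero.2 one_ne_zero
  have hchar : ringChar F ≠ 2 := fun h => h2 (by
    have := CharP.cast_eq_zero F (ringChar F)
    rw [h] at this
    exact_mod_cast this)
  rw [← quadraticChar_one_iff_isSquare (neg_ne_zero.2 h0), ← neg_one_mul, map_mul,
    quadraticChar_neg_one_iff_not_isSquare.2 hd, mul_neg_one]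
  constructor
  · intro h
    by_contra h4
    rw [(quadraticChar_one_iff_isSquare hn).2 (FiniteField.isSquare_neg_one_iff.2 h4)] at h
    norm_num at h
  · intro h4
    rw [quadraticChar_neg_one_iff_not_isSquare.2 fun hs => FiniteField.isSquare_neg_one_iff.1 hs h4,
      neg_neg]

/-- The centraliser of an involution outside `PSL₂`. -/
theorem invol (h2 : (2 : F) ≠ 0) {g : GL (Fin 2) F} (hdet : ¬ IsSquare (g : M2).det)
    (hi : pm g * pm g = 1) :
    NS g ∧ IsCyclic (Tor g) ∧
      Nat.card (Tor g) = (if Nat.card F % 4 = 3 then Nat.card F - 1 else Nat.card F + 1) ∧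
      Tor g ≤ Subgroup.centralizer {pm g} ∧
      Nat.card (Subgroup.centralizer {pm g}) = 2 * Nat.card (Tor g) ∧
      ∀ h ∈ Subgroup.centralizer {pm g}, h ∉ Tor g → ∀ x ∈ Tor g, h * x * h⁻¹ = x⁻¹ := by
  have hg : NS g := by
    intro hs
    refine hdet ⟨(g : M2) 0 0, ?_⟩
    rw [det_fin_two, hs.1, hs.2.1, hs.2.2]
    ring
  have htr := det_sq_of_pow_two hg hi
  have hdisc : (g : M2).trace ^ 2 - 4 * (g : M2).det = 2 * 2 * -(g : M2).det := by rw [htr]; ring
  have hd0 : (g : M2).trace ^ 2 - 4 * (g : M2).det ≠ 0 := by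
    rw [hdisc]
    exact mul_ne_zero (mul_ne_zero h2 h2) (neg_ne_zero.2 (GeneralLinearGroup.det_ne_zero g))
  have hle : Tor g ≤ Subgroup.centralizer {pm g} := fun x hx =>
    Subgroup.mem_centralizer_singleton_iff.2 (Tor_comm hg hx (self_mem_Tor g))
  have hinv : ∀ h ∈ Subgroup.centralizer {pm g}, h ∉ Tor g →
      ∀ x ∈ Tor g, h * x * h⁻¹ = x⁻¹ := by
    intro h hh hn
    obtain ⟨h', rfl⟩ := ProjGenLinGroup.mk_surjective h
    rcases pm_commute_cases (Subgroup.mem_centralizer_singleton_iff.1 hh) with e | e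
    · exact absurd (mem_Tor.2 ⟨h', e, rfl⟩) hn
    · exact fun x hx => inv_of_adj hg (by rw [e, htr]; simp) hx
  refine ⟨hg, isCyclic_Tor h2 hg hd0, ?_, hle, ?_, hinv⟩
  · by_cases h4 : Nat.card F % 4 = 3
    · rw [if_pos h4]
      obtain ⟨s, hs⟩ := (isSquare_neg_of_not h2 hdet).2 h4
      refine card_Tor_split h2 hg (s := 2 * s) (mul_ne_zero h2 fun h0 => hd0 ?_) ?_
      · rw [hdisc, hs, h0]; ring
      · rw [hdisc, hs]; ring
    · rw [if_neg h4]
      refine card_Tor_nonsplit h2 hg fun hsq => h4 ((isSquare_neg_of_not h2 hdet).1 ?_)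
      obtain ⟨s, hs⟩ := hsq
      refine ⟨s / 2, ?_⟩
      rw [hdisc] at hs
      field_simp
      linear_combination hs
  · obtain ⟨h, hh⟩ := exists_inverter hg
    rw [htr, zero_smul, zero_sub] at hh
    have hhC : pm h ∈ Subgroup.centralizer {pm g} := by
      rw [Subgroup.mem_centralizer_singleton_iff, ← mul_inv_eq_iff_eq_mul]
      have hg2 : pm g = (pm g)⁻¹ := eq_inv_of_mul_eq_one_left hi
      conv_rhs => rw [hg2]
      exact inv_of_adj hg (by rw [hh, htr, zero_smul, zero_sub]) (self_mem_Tor g)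
    have hnT : pm h ∉ Tor g := by
      intro hT
      obtain ⟨z, hz, hzh⟩ := mem_Tor.1 hT
      rw [ProjGenLinGroup.mk_eq_mk_iff] at hzh
      obtain ⟨u, hu⟩ := hzh
      have hcomm : h * g = g * h := by
        have hsc := GeneralLinearGroup.scalar_commute u g
        rw [← hu, mul_assoc, hsc, ← mul_assoc, hz, mul_assoc]
      have e : h * g * h⁻¹ = g := by rw [hcomm, mul_inv_cancel_right]
      rw [e] at hh
      refine hg ⟨?_, ?_, ?_⟩
      · have := congrFun (congrFun hh 0) 1
        simp at this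
        exact (mul_eq_zero.1 (show (2 : F) * (g : M2) 0 1 = 0 by linear_combination this)).resolve_left h2
      · have := congrFun (congrFun hh 1) 0
        simp at this
        exact (mul_eq_zero.1 (show (2 : F) * (g : M2) 1 0 = 0 by linear_combination this)).resolve_left h2
      · have e0 := congrFun (congrFun hh 0) 0
        have e1 := congrFun (congrFun hh 1) 1
        simp at e0 e1
        rw [(mul_eq_zero.1 (show (2 : F) * (g : M2) 0 0 = 0 by linear_combination e0)).resolve_left h2,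
          (mul_eq_zero.1 (show (2 : F) * (g : M2) 1 1 = 0 by linear_combination e1)).resolve_left h2]
    let B := (Tor g).subgroupOf (Subgroup.centralizer {pm g})
    have hidx : B.index = 2 := by
      rw [Subgroup.index_eq_two_iff]
      refine ⟨⟨pm h, hhC⟩, fun b => ?_⟩
      by_cases hb : (b : PGL(2, F)) ∈ Tor g
      · refine Or.inr ⟨hb, fun hbh => hnT ?_⟩
        exact ((Tor g).mul_mem_cancel_left hb).1 hbh
      · refine Or.inl ⟨?_, hb⟩
        show (b : PGL(2, F)) * pm h ∈ Tor g
        by_contra hn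
        -- both `b` and `b * h` invert the torus, so `h` centralises it
        obtain ⟨b', hb'⟩ := ProjGenLinGroup.mk_surjective (b : PGL(2, F))
        have hbc := Subgroup.mem_centralizer_singleton_iff.1 b.2
        rw [← hb'] at hbc
        rcases pm_commute_cases hbc with e | e
        · exact hb (hb' ▸ mem_Tor.2 ⟨b', e, rfl⟩)
        · refine hn (hb' ▸ mem_Tor.2 ⟨b' * h, ?_, map_mul _ _ _⟩)
          rw [← mul_inv_eq_iff_eq_mul]
          refine Units.ext ?_
          calc ((b' * h * g * (b' * h)⁻¹ : GL (Fin 2) F) : M2)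
              = (b' : M2) * ((h * g * h⁻¹ : GL (Fin 2) F) : M2) * ((b'⁻¹ : GL (Fin 2) F) : M2) := by
                simp only [← Units.val_mul]
                congr 1
                group
            _ = -((b' * g * b'⁻¹ : GL (Fin 2) F) : M2) := by
                rw [hh]; simp [Units.val_mul, Matrix.mul_assoc]
            _ = (g : M2) := by rw [e, neg_neg]
    rw [← B.card_mul_index, hidx, mul_comm,
      Nat.card_congr (Subgroup.subgroupOfEquivOfLe hle).toEquiv]

/-- A split involution outside `PSL₂` is conjugate to `diag(-1, 1)`. -/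
theorem invol_conj (h2 : (2 : F) ≠ 0) (h4 : Nat.card F % 4 = 3) {g : GL (Fin 2) F}
    (hdet : ¬ IsSquare (g : M2).det) (hi : pm g * pm g = 1) :
    ∃ h D : GL (Fin 2) F, (D : M2) = !![-1, 0; 0, 1] ∧ pm h * pm g * (pm h)⁻¹ = pm D := by
  obtain ⟨hg, -⟩ := invol h2 hdet hi
  obtain ⟨μ, hμ⟩ := (isSquare_neg_of_not h2 hdet).2 h4
  have hμ0 : μ ≠ 0 := fun h => GeneralLinearGroup.det_ne_zero g (by
    rw [h, mul_zero, neg_eq_zero] at hμ; exact hμ)
  let D : GL (Fin 2) F := GeneralLinearGroup.mkOfDetNeZero !![-1, 0; 0, 1]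
    (by rw [det_fin_two_of]; simp)
  let Dμ : GL (Fin 2) F := D * GeneralLinearGroup.scalar (Fin 2) (Units.mk0 μ hμ0)
  have hval : (Dμ : M2) = !![-μ, 0; 0, μ] := by
    show (D * GeneralLinearGroup.scalar (Fin 2) (Units.mk0 μ hμ0) : GL (Fin 2) F).val = _
    rw [Units.val_mul, scalar_val]
    ext i j
    fin_cases i <;> fin_cases j <;> simp [D]
  obtain ⟨h, hh⟩ := isConj_iff.1 (show IsConj g Dμ by
    refine (H40.isConj_GL2_iff hg).2 ⟨?_, ?_, ?_⟩
    · rw [hval]
      intro hs
      have := hs.2.2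
      simp at this
      exact hμ0 ((mul_eq_zero.1 (show (2 : F) * μ = 0 by linear_combination -this)).resolve_left h2)
    · rw [hval, det_sq_of_pow_two hg hi]
      simp [trace_fin_two]
    · rw [hval, det_fin_two_of]
      linear_combination -hμ)
  refine ⟨h, D, rfl, ?_⟩
  rw [← map_inv, ← map_mul, ← map_mul, hh]
  show pm (D * _) = pm D
  rw [map_mul, ProjGenLinGroup.mk_scalar, mul_one]

end Fin

/-- `diag(a, 1)`. -/
def dgG (a : Fˣ) : GL (Fin 2) F :=
  GeneralLinearGroup.mkOfDetNeZero !![(a : F), 0; 0, 1] (by rw [det_fin_two_of]; simp)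

/-- The diagonal torus. -/
def dg : Fˣ →* PGL(2, F) where
  toFun a := pm (dgG a)
  map_one' := by
    rw [← map_one (pm (F := F))]
    congr 1
    refine Units.ext ?_
    ext i j
    fin_cases i <;> fin_cases j <;> simp [dgG]
  map_mul' a b := by
    rw [← map_mul]
    congr 1
    refine Units.ext ?_
    ext i j
    fin_cases i <;> fin_cases j <;> simp [dgG]

/-- Upper unitriangular matrices. -/
def uG (x : F) : GL (Fin 2) F :=
  GeneralLinearGroup.mkOfDetNeZero !![1, x; 0, 1] (by rw [det_fin_two_of]; simp)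

/-- The unipotent subgroup. -/
def un : Multiplicative F →* PGL(2, F) where
  toFun x := pm (uG x.toAdd)
  map_one' := by
    rw [← map_one (pm (F := F))]
    congr 1
    refine Units.ext ?_
    ext i j
    fin_cases i <;> fin_cases j <;> simp [uG]
  map_mul' x y := by
    rw [← map_mul]
    congr 1
    refine Units.ext ?_
    ext i j
    fin_cases i <;> fin_cases j <;> simp [uG, add_comm]

/-- The antidiagonal involution. -/
def w0 : PGL(2, F) :=
  pm (GeneralLinearGroup.mkOfDetNeZero !![0, 1; 1, 0] (by rw [det_fin_two_of]; simp))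

/-- The point at infinity. -/
def inf : ℙ F (Fin 2 → F) := H37.stdPt 0

theorem dg_injective : Function.Injective (dg (F := F)) := by
  rw [injective_iff_map_eq_one]
  intro a ha
  have h := (pm_eq_one_iff (g := dgG a)).1 ha
  exact Units.ext (by simpa [dgG] using h.2.2)

theorem un_injective : Function.Injective (un (F := F)) := by
  rw [injective_iff_map_eq_one]
  intro a ha
  have h := (pm_eq_one_iff (g := uG a.toAdd)).1 ha
  exact Multiplicative.toAdd.injective (by simpa [uG] using h.1)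

theorem dg_un (a : Fˣ) (x : F) :
    dg a * un (Multiplicative.ofAdd x) * (dg a)⁻¹ = un (Multiplicative.ofAdd ((a : F) * x)) := by
  rw [mul_inv_eq_iff_eq_mul]
  show pm (dgG a) * pm (uG x) = pm (uG ((a : F) * x)) * pm (dgG a)
  rw [← map_mul, ← map_mul]
  congr 1
  refine Units.ext ?_
  ext i j
  fin_cases i <;> fin_cases j <;> simp [uG, dgG]

theorem w0_dg (a : Fˣ) : w0 * dg a * w0⁻¹ = (dg a)⁻¹ := by
  rw [mul_inv_eq_iff_eq_mul, ← map_inv]
  show pm _ * pm (dgG a) = pm (dgG a⁻¹) * pm _
  rw [← map_mul, ← map_mul, ProjGenLinGroup.mk_eq_mk_iff]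
  refine ⟨a⁻¹, Units.ext ?_⟩
  rw [Units.val_mul, scalar_val]
  ext i j
  fin_cases i <;> fin_cases j <;> simp [dgG, Matrix.mul_apply]

theorem smul_inf {g : GL (Fin 2) F} : pm g • inf (F := F) = inf ↔ (g : M2) 1 0 = 0 := by
  show g • H37.stdPt (F := F) 0 = H37.stdPt 0 ↔ _
  rw [H37.stdPt, Projectivization.smul_mk, Projectivization.mk_eq_mk_iff' F _ _ _ _]
  constructor
  · rintro ⟨a, ha⟩
    have := congrFun ha 1
    simp [H37.stdVec, Units.smul_def, Matrix.mulVec, dotProduct] at this
    exact this.symm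
  · intro h
    refine ⟨(g : M2) 0 0, ?_⟩
    funext i
    fin_cases i <;> simp [H37.stdVec, Units.smul_def, Matrix.mulVec, dotProduct, h]

theorem mem_borel {x : PGL(2, F)} (hx : x ∈ stabilizer PGL(2, F) (inf (F := F))) :
    ∃ (b : F) (a : Fˣ), x = un (Multiplicative.ofAdd b) * dg a := by
  obtain ⟨g, rfl⟩ := ProjGenLinGroup.mk_surjective x
  have h10 := smul_inf.1 hx
  have hdet := GeneralLinearGroup.det_ne_zero g
  rw [det_fin_two, h10, mul_zero, sub_zero] at hdet
  have h00 := left_ne_zero_of_mul hdet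
  have h11 := right_ne_zero_of_mul hdet
  refine ⟨(g : M2) 0 1 / (g : M2) 1 1, Units.mk0 ((g : M2) 0 0 / (g : M2) 1 1)
    (div_ne_zero h00 h11), ?_⟩
  show pm g = pm (uG _) * pm (dgG _)
  rw [← map_mul, ProjGenLinGroup.mk_eq_mk_iff]
  refine ⟨(Units.mk0 _ h11)⁻¹, Units.ext ?_⟩
  rw [Units.val_mul, scalar_val]
  ext i j
  fin_cases i <;> fin_cases j <;> simp [uG, dgG, h10, h11, div_eq_inv_mul]

theorem dg_mem (a : Fˣ) : dg a ∈ stabilizer PGL(2, F) (inf (F := F)) :=
  (smul_inf (g := dgG a)).2 (by simp [dgG])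

theorem un_mem (x : Multiplicative F) : un x ∈ stabilizer PGL(2, F) (inf (F := F)) :=
  (smul_inf (g := uG x.toAdd)).2 (by simp [uG])

theorem w0_not_mem : (w0 : PGL(2, F)) ∉ stabilizer PGL(2, F) (inf (F := F)) := fun h => by
  have := (smul_inf (g := GeneralLinearGroup.mkOfDetNeZero !![(0 : F), 1; 1, 0]
    (by rw [det_fin_two_of]; simp))).1 h
  simp at this

/-- The fixed points of a diagonal element. -/
theorem fix_dg {a : Fˣ} (ha : a ≠ 1) {p : ℙ F (Fin 2 → F)} (h : dg a • p = p) :
    p = inf ∨ p = (w0 : PGL(2, F)) • inf := by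
  induction p using Projectivization.ind with
  | _ v hv =>
    change dgG a • Projectivization.mk F v hv = _ at h
    rw [Projectivization.smul_mk, Projectivization.mk_eq_mk_iff' F _ _ _ _] at h
    obtain ⟨c, hc⟩ := h
    have h0 := congrFun hc 0
    have h1 := congrFun hc 1
    simp [dgG, Units.smul_def, Matrix.mulVec, dotProduct] at h0 h1
    by_cases hv1 : v 1 = 0
    · left
      rw [inf, H37.stdPt, Projectivization.mk_eq_mk_iff' F _ _ _ _]
      refine ⟨v 0, ?_⟩
      funext i
      fin_cases i <;> simp [H37.stdVec, hv1]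
    · right
      have hv0 : v 0 = 0 := by
        by_contra hne
        have hc1 : c = 1 := mul_right_cancel₀ hv1 (h1.trans (one_mul _).symm)
        rw [hc1] at h0
        rcases h0 with e | e
        · exact ha (Units.ext e.symm)
        · exact hne e
      show _ = GeneralLinearGroup.mkOfDetNeZero !![(0 : F), 1; 1, 0] _ • H37.stdPt 0
      rw [H37.stdPt, Projectivization.smul_mk, Projectivization.mk_eq_mk_iff' F _ _ _ _]
      refine ⟨v 1, ?_⟩
      funext i
      fin_cases i <;> simp [H37.stdVec, Units.smul_def, Matrix.mulVec, dotProduct, hv0]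

theorem Tor_diag (h2 : (2 : F) ≠ 0) {D : GL (Fin 2) F} (hD : (D : M2) = !![-1, 0; 0, 1]) :
    Tor D = (dg (F := F)).range := by
  refine le_antisymm ?_ ?_
  · intro x hx
    obtain ⟨z, hz, rfl⟩ := mem_Tor.1 hx
    have hz' := congrArg (fun w : GL (Fin 2) F => (w : M2)) hz
    simp only [Units.val_mul, hD] at hz'
    have h01 : (z : M2) 0 1 = 0 := by
      have := congrFun (congrFun hz' 0) 1
      simp [Matrix.mul_apply] at this
      exact (mul_eq_zero.1 (show (2 : F) * (z : M2) 0 1 = 0 by linear_combination this)).resolve_left h2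
    have h10 : (z : M2) 1 0 = 0 := by
      have := congrFun (congrFun hz' 1) 0
      simp [Matrix.mul_apply] at this
      exact (mul_eq_zero.1 (show (2 : F) * (z : M2) 1 0 = 0 by linear_combination -this)).resolve_left h2
    obtain ⟨b, a, e⟩ := mem_borel (x := pm z) (smul_inf.2 h10)
    refine ⟨a, ?_⟩
    have hb : b = 0 := by
      have e' := e
      change pm z = pm (uG b) * pm (dgG a) at e'
      rw [← map_mul, ProjGenLinGroup.mk_eq_mk_iff] at e'
      obtain ⟨u, hu⟩ := e'
      have := congrArg (fun w : GL (Fin 2) F => (w : M2) 0 1) hu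
      simpa [uG, dgG, h01] using this.symm
    rw [e, hb, ofAdd_zero, map_one, one_mul]
  · rintro _ ⟨a, rfl⟩
    refine mem_Tor.2 ⟨dgG a, Units.ext ?_, rfl⟩
    rw [Units.val_mul, Units.val_mul, hD]
    ext i j
    fin_cases i <;> fin_cases j <;> simp [dgG]

theorem card_borel [Finite F] :
    Nat.card PGL(2, F) = (Nat.card F + 1) * Nat.card (stabilizer PGL(2, F) (inf (F := F))) := by
  haveI : IsMultiplyPretransitive PGL(2, F) (ℙ F (Fin 2 → F)) 3 := H37.PGL_three_pretransitive
  have h2 : IsMultiplyPretransitive PGL(2, F) (ℙ F (Fin 2 → F)) 2 :=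
    isMultiplyPretransitive_of_le (m := 2) (n := 3) (by norm_num) (by
      rw [Projectivization.card_of_finrank_two F (Fin 2 → F) (by simp)]
      have : 1 < Nat.card F := Finite.one_lt_card
      omega)
  haveI : IsPretransitive PGL(2, F) (ℙ F (Fin 2 → F)) := by
    refine ⟨fun x y => ?_⟩
    by_cases hxy : x = y
    · exact ⟨1, by rw [hxy, one_smul]⟩
    · obtain ⟨g, hg, -⟩ := (is_two_pretransitive_iff.1 h2) hxy (Ne.symm hxy)
      exact ⟨g, hg⟩
  rw [← Projectivization.card_of_finrank_two F (Fin 2 → F) (by simp),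
    ← MulAction.index_stabilizer_of_transitive (PGL(2, F)) (inf (F := F)), Subgroup.index_mul_card]

/-- Two-point stabilisers in the Borel subgroup. -/
theorem borel_trans [Finite F] {p p' : ℙ F (Fin 2 → F)} (hp : p ≠ inf) (hp' : p' ≠ inf) :
    ∃ b ∈ stabilizer PGL(2, F) (inf (F := F)), b • p = p' := by
  haveI : IsMultiplyPretransitive PGL(2, F) (ℙ F (Fin 2 → F)) 3 := H37.PGL_three_pretransitive
  have h2 : IsMultiplyPretransitive PGL(2, F) (ℙ F (Fin 2 → F)) 2 :=
    isMultiplyPretransitive_of_le (m := 2) (n := 3) (by norm_num) (by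
      rw [Projectivization.card_of_finrank_two F (Fin 2 → F) (by simp)]
      have : 1 < Nat.card F := Finite.one_lt_card
      omega)
  obtain ⟨b, hb1, hb2⟩ := (is_two_pretransitive_iff.1 h2) hp.symm hp'.symm
  exact ⟨b, hb1, hb2⟩

theorem centralizer_un (h2 : (2 : F) ≠ 0) {x : F} (hx : x ≠ 0) :
    Subgroup.centralizer {un (Multiplicative.ofAdd x)} = (un (F := F)).range := by
  refine le_antisymm ?_ ?_
  · intro z hz
    obtain ⟨h, rfl⟩ := ProjGenLinGroup.mk_surjective z
    have htr : (uG x : M2).trace ≠ 0 := by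
      simp [uG, trace_fin_two]
      rwa [one_add_one_eq_two]
    have hc : ProjGenLinGroup.mk h ∈ Tor (uG x) := by
      rw [← centralizer_le_Tor htr h2]
      exact hz
    obtain ⟨k, hk, hkh⟩ := mem_Tor.1 hc
    have hk' := congrArg (fun w : GL (Fin 2) F => (w : M2)) hk
    simp only [Units.val_mul] at hk'
    have h10 : (k : M2) 1 0 = 0 := by
      have := congrFun (congrFun hk' 1) 1
      simp [uG, Matrix.mul_apply] at this
      exact this.resolve_right hx
    have h00 : (k : M2) 0 0 = (k : M2) 1 1 := by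
      have := congrFun (congrFun hk' 0) 1
      simp [uG, Matrix.mul_apply] at this
      exact mul_right_cancel₀ hx (by linear_combination this)
    have h11 : (k : M2) 1 1 ≠ 0 := by
      intro e
      have := GeneralLinearGroup.det_ne_zero k
      rw [det_fin_two, h10, h00, e] at this
      simp at this
    refine ⟨Multiplicative.ofAdd ((k : M2) 0 1 / (k : M2) 1 1), ?_⟩
    rw [← hkh]
    show pm (uG _) = pm k
    rw [ProjGenLinGroup.mk_eq_mk_iff]
    refine ⟨Units.mk0 _ h11, Units.ext ?_⟩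
    rw [Units.val_mul, scalar_val]
    ext i j
    fin_cases i <;> fin_cases j <;> simp [uG, h10, h00, h11, mul_div_cancel₀]
  · rintro _ ⟨z, rfl⟩
    rw [Subgroup.mem_centralizer_singleton_iff, ← map_mul, ← map_mul, mul_comm]

end H53.CSy
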