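import Cfsg.Agent.H53.CSy.Hom
import Cfsg.Agent.H53.CSy.PGL

/-!
Lifting from `PGL₂(r)` to `C(t)`.
-/

set_option autoImplicit false
set_option linter.style.haveILetI false
set_option linter.unusedSectionVars false

namespace H53.CSy

open Matrix
open scoped MatrixGroups

universe u

theorem two_pow_cancel {a b u v : ℕ} (hu : Odd u) (hv : Odd v) (h : 2 ^ a * u = 2 ^ b * v) :
    a = b := by
  have hu0 : u ≠ 0 := fun e => by simp [e] at hu
  have hv0 : v ≠ 0 := fun e => by simp [e] at hv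
  have := congrArg (fun n => n.factorization 2) h
  simp only [Nat.factorization_mul (pow_ne_zero _ two_ne_zero) hu0,
    Nat.factorization_mul (pow_ne_zero _ two_ne_zero) hv0, Finsupp.add_apply,
    Nat.factorization_pow, Finsupp.smul_apply, Nat.Prime.factorization_self Nat.prime_two,
    Nat.factorization_eq_zero_of_not_dvd (fun d => Nat.not_even_iff_odd.2 hu (even_iff_two_dvd.2 d)),
    Nat.factorization_eq_zero_of_not_dvd (fun d => Nat.not_even_iff_odd.2 hv (even_iff_two_dvd.2 d))]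
    at this
  simpa using this

theorem exists_conj_mem {P : Type*} [Group P] [Finite P] {p : ℕ} (hp : p.Prime) {H : Subgroup P}
    (hH : ¬ p ∣ H.index) {z : P} (hz : orderOf z = p) : ∃ g : P, g * z * g⁻¹ ∈ H := by
  haveI : Fact p.Prime := ⟨hp⟩
  obtain ⟨R⟩ : Nonempty (Sylow p H) := inferInstance
  have hR : IsPGroup p ((R : Subgroup H).map H.subtype) := R.2.map H.subtype
  have hi : ¬ p ∣ ((R : Subgroup H).map H.subtype).index := by
    rw [Subgroup.index_map_subtype]
    exact hp.not_dvd_mul R.not_dvd_index hH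
  obtain ⟨Q, hQ⟩ := (IsPGroup.of_card (p := p) (G := Subgroup.zpowers z) (n := 1)
    (by rw [Nat.card_zpowers, hz, pow_one])).exists_le_sylow
  obtain ⟨g, hg⟩ := MulAction.exists_smul_eq P Q (hR.toSylow hi)
  refine ⟨g, ?_⟩
  have h1 : g * z * g⁻¹ ∈ ((g • Q : Sylow p P) : Subgroup P) :=
    Subgroup.smul_mem_pointwise_smul z (MulAut.conj g) _ (hQ (Subgroup.mem_zpowers z))
  rw [hg] at h1
  obtain ⟨w, -, hw⟩ := h1
  exact hw ▸ w.2

variable {G : Type u} [Group G] [Finite G] {D : H70.CSy.Setup G}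

/-- `C(t)` as a type. -/
abbrev Ct (D : H70.CSy.Setup G) := ↥(Subgroup.centralizer ({D.t} : Set G))

/-- An element of the Sylow subgroup as an element of `C(t)`. -/
def sC (D : H70.CSy.Setup G) (s : ↥(D.S : Subgroup G)) : Ct D := ⟨s, D.S_le s.2⟩

/-- The involution `t` as an element of `C(t)`. -/
def tC (D : H70.CSy.Setup G) : Ct D :=
  ⟨D.t, Subgroup.mem_centralizer_singleton_iff.2 rfl⟩

theorem tC_comm (c : Ct D) : tC D * c = c * tC D :=
  Subtype.ext (Subgroup.mem_centralizer_singleton_iff.1 c.2).symm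

theorem coe_commute_t (c : Ct D) : Commute (c : G) D.t :=
  Subgroup.mem_centralizer_singleton_iff.1 c.2

theorem sq_mem_K (c : Ct D) : ((c * c : Ct D) : G) ∈ D.K := by
  have h := Subgroup.mul_self_mem_of_index_two
    (H := D.K.subgroupOf (Subgroup.centralizer ({D.t} : Set G))) D.K_index c
  exact Subgroup.mem_subgroupOf.1 h

theorem mem_K_of_odd {c : Ct D} {m : ℕ} (hm : Odd m) (hc : c ^ m = 1) : (c : G) ∈ D.K := by
  obtain ⟨k, rfl⟩ := hm
  have e : c = c ^ (k + 1) * c ^ (k + 1) := by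
    rw [← pow_add, show k + 1 + (k + 1) = (2 * k + 1) + 1 by ring, pow_succ, hc, one_mul]
  rw [e]
  exact sq_mem_K _

/-- An exponent to lift. -/
def Good (D : H70.CSy.Setup G) (m : ℕ) : Prop := Odd m ∧ m.Coprime (Nat.card D.O)

namespace Hom

variable (H : Hom D)

theorem pi_t : H.π (tC D) = 1 :=
  (H.ker _).2 ⟨1, one_mem _, Or.inr (by simp [tC])⟩

theorem good_of_dvd {m : ℕ} (hm : Odd m) (h : m ∣ H.r * (H.r ^ 2 - 1)) : Good D m :=
  ⟨hm, H.r_O.coprime_dvd_left h⟩

theorem ker_mem_K {c : Ct D} (h : H.π c = 1) : (c : G) ∈ D.K := by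
  obtain ⟨o, ho, e | e⟩ := (H.ker c).1 h
  · rw [e]; exact D.O_le_K ho
  · rw [e]; exact mul_mem D.t_mem_K (D.O_le_K ho)

theorem ker_pow {c : Ct D} (h : H.π c = 1) : c ^ (2 * Nat.card D.O) = 1 := by
  obtain ⟨o, ho, e⟩ := (H.ker c).1 h
  have ho1 : o ^ (2 * Nat.card D.O) = 1 := by
    rw [mul_comm, pow_mul, show o ^ Nat.card D.O = 1 from
      congrArg Subtype.val (pow_card_eq_one' (x := (⟨o, ho⟩ : D.O))), one_pow]
  refine Subtype.ext ?_
  rw [SubmonoidClass.coe_pow, Subgroup.coe_one]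
  rcases e with e | e
  · rw [e, ho1]
  · have hc : Commute D.t o :=
      (show Commute o D.t from Subgroup.mem_centralizer_singleton_iff.1 (D.O_le ho)).symm
    rw [e, hc.mul_pow, ho1, pow_mul, ← D.t_ord, pow_orderOf_eq_one, one_pow, one_mul]

theorem ker_central {c z : Ct D} (hz : H.π z = 1) (hc : (c : G) ∈ D.K) : Commute c z := by
  obtain ⟨o, ho, e | e⟩ := (H.ker z).1 hz
  · refine Subtype.ext ?_
    show (c : G) * z = z * c
    rw [e, H.O_comm _ hc _ ho]
  · refine Subtype.ext ?_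
    show (c : G) * z = z * c
    rw [e, ← mul_assoc, (coe_commute_t c).eq, mul_assoc, H.O_comm _ hc _ ho, mul_assoc]

theorem eq_one {c : Ct D} {m : ℕ} (hm : Good D m) (hc : c ^ m = 1) (h : H.π c = 1) : c = 1 := by
  rw [← orderOf_eq_one_iff]
  exact Nat.eq_one_of_dvd_coprimes
    (Nat.Coprime.mul_right (Nat.coprime_two_right.2 hm.1) hm.2)
    (orderOf_dvd_of_pow_eq_one hc) (orderOf_dvd_of_pow_eq_one (H.ker_pow h))

theorem eq_of_pi {a b : Ct D} {m : ℕ} (hm : Good D m) (ha : a ^ m = 1) (hb : b ^ m = 1)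
    (h : H.π a = H.π b) : a = b := by
  have hz : H.π (a⁻¹ * b) = 1 := by rw [map_mul, map_inv, h, inv_mul_cancel]
  have hc : Commute a (a⁻¹ * b) := H.ker_central hz (mem_K_of_odd hm.1 ha)
  have h1 : (a⁻¹ * b) ^ m = 1 := by
    have h2 := hc.mul_pow m
    rw [mul_inv_cancel_left, hb, ha, one_mul] at h2
    exact h2.symm
  exact inv_mul_eq_one.1 (H.eq_one hm h1 hz)

theorem exists_lift {z : PGL(2, ZMod H.r)} {m : ℕ} (hm : Good D m) (hz : z ^ m = 1) :
    ∃ c : Ct D, H.π c = z ∧ c ^ m = 1 := by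
  obtain ⟨c, rfl⟩ := H.surj z
  have h1 : c ^ (m * (2 * Nat.card D.O)) = 1 := by
    rw [pow_mul]; exact H.ker_pow (by rw [map_pow, hz])
  obtain ⟨e, he1, he2⟩ := Nat.chineseRemainder
    (Nat.Coprime.mul_right (Nat.coprime_two_right.2 hm.1) hm.2) 1 0
  refine ⟨c ^ e, ?_, ?_⟩
  · rw [map_pow]
    conv_rhs => rw [← pow_one (H.π c)]
    rw [pow_eq_pow_iff_modEq]
    exact he1.of_dvd (orderOf_dvd_of_pow_eq_one hz)
  · obtain ⟨k, hk⟩ := Nat.modEq_zero_iff_dvd.1 he2
    rw [← pow_mul, hk, show 2 * Nat.card D.O * k * m = m * (2 * Nat.card D.O) * k by ring,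
      pow_mul, h1, one_pow]

theorem orderOf_lift {c : Ct D} {m : ℕ} (hm : Good D m) (hc : c ^ m = 1) :
    orderOf c = orderOf (H.π c) := by
  refine Nat.dvd_antisymm (orderOf_dvd_of_pow_eq_one (H.eq_one hm ?_ ?_)) (orderOf_map_dvd _ _)
  · rw [← pow_mul, mul_comm, pow_mul, hc, one_pow]
  · rw [map_pow, pow_orderOf_eq_one]

theorem mem_zpowers_of {w c : Ct D} {m : ℕ} (hm : Good D m) (hw : w ^ m = 1) (hc : c ^ m = 1)
    (h : H.π c ∈ Subgroup.zpowers (H.π w)) : c ∈ Subgroup.zpowers w := by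
  obtain ⟨k, hk⟩ := Subgroup.mem_zpowers_iff.1 h
  refine Subgroup.mem_zpowers_iff.2 ⟨k, H.eq_of_pi hm ?_ hc (by rw [map_zpow, hk])⟩
  rw [← zpow_natCast, ← _root_.zpow_mul, mul_comm, _root_.zpow_mul, zpow_natCast, hw, _root_.one_zpow]

theorem conj_eq {g d e : Ct D} {m : ℕ} (hm : Good D m) (hd : d ^ m = 1) (he : e ^ m = 1)
    (h : H.π g * H.π d * (H.π g)⁻¹ = H.π e) : g * d * g⁻¹ = e :=
  H.eq_of_pi hm (by rw [conj_pow, hd, mul_one, mul_inv_cancel]) he
    (by rw [map_mul, map_mul, map_inv, h])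

theorem commute_iff {g d : Ct D} {m : ℕ} (hm : Good D m) (hd : d ^ m = 1) :
    Commute g d ↔ Commute (H.π g) (H.π d) :=
  ⟨fun h => h.map H.π, fun h =>
    mul_inv_eq_iff_eq_mul.1 (H.conj_eq hm hd hd (mul_inv_eq_iff_eq_mul.2 h))⟩

theorem card_comap (A : Subgroup PGL(2, ZMod H.r)) :
    Nat.card (A.comap H.π) = 2 * Nat.card D.O * Nat.card A := by
  haveI := H.hr
  haveI : Finite PGL(2, ZMod H.r) := Finite.of_surjective H.π H.surj
  have h1 := (A.comap H.π).card_mul_index
  rw [Subgroup.index_comap_of_surjective _ H.surj, H.card_ct] at h1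
  have h2 := A.card_mul_index
  rw [H.card_pgl] at h2
  refine Nat.eq_of_mul_eq_mul_right
    (show 0 < A.index from Nat.pos_of_ne_zero Subgroup.index_ne_zero_of_finite) ?_
  rw [h1, mul_assoc (2 * Nat.card D.O), h2]
  ring

theorem card_cent {d : Ct D} {m : ℕ} (hm : Good D m) (hd : d ^ m = 1) :
    Nat.card (Subgroup.centralizer ({D.t, (d : G)} : Set G)) =
      2 * Nat.card D.O * Nat.card (Subgroup.centralizer {H.π d}) := by
  rw [← H.card_comap]
  refine (Nat.card_eq_of_bijective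
    (fun c : (Subgroup.centralizer {H.π d}).comap H.π =>
      (⟨((c : Ct D) : G), ?_⟩ : Subgroup.centralizer ({D.t, (d : G)} : Set G))) ⟨?_, ?_⟩).symm
  · rw [Subgroup.mem_centralizer_iff]
    rintro z (rfl | rfl)
    · exact (Subgroup.mem_centralizer_singleton_iff.1 (c : Ct D).2).symm
    · exact congrArg Subtype.val ((H.commute_iff hm hd).2
        (Subgroup.mem_centralizer_singleton_iff.1 c.2)).symm.eq
  · intro a b h
    exact Subtype.ext (Subtype.ext (congrArg
      (fun z : Subgroup.centralizer ({D.t, (d : G)} : Set G) => (z : G)) h))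
  · rintro ⟨g, hg⟩
    rw [Subgroup.mem_centralizer_iff] at hg
    have hgC : g ∈ Subgroup.centralizer ({D.t} : Set G) :=
      Subgroup.mem_centralizer_singleton_iff.2 (hg _ (Or.inl rfl)).symm
    refine ⟨⟨⟨g, hgC⟩, Subgroup.mem_centralizer_singleton_iff.2 ?_⟩, rfl⟩
    exact ((H.commute_iff hm hd).1
      (show Commute (⟨g, hgC⟩ : Ct D) d from Subtype.ext (hg _ (Or.inr rfl)).symm)).eq

/-- A square with nontrivial image is not an involution. -/
theorem sq_sq_ne_one {c : Ct D} (h : H.π (c * c) ≠ 1) : (c * c) * (c * c) ≠ 1 := by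
  intro h2
  have hne : c * c ≠ 1 := fun e => h (by rw [e, map_one])
  have ho : orderOf ((c * c : Ct D) : G) = 2 := by
    rw [Subgroup.orderOf_coe]
    exact orderOf_eq_prime (by rw [pow_two]; exact h2) hne
  have e : c * c = tC D := Subtype.ext (D.K_unique _ (sq_mem_K c) ho)
  exact h (e ▸ H.pi_t)

/-- A 2-element whose image has order `2^(e+2)` has order twice that. -/
theorem orderOf_two_elt {c : Ct D} {e : ℕ} (hπ : orderOf (H.π c) = 2 ^ (e + 2))
    (hc : c ^ (2 ^ (e + 3)) = 1) : orderOf c = 2 ^ (e + 3) := by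
  refine orderOf_eq_prime_pow ?_ hc
  intro h
  refine H.sq_sq_ne_one (c := c ^ 2 ^ e) ?_ ?_
  · rw [← pow_add, map_pow]
    refine fun h1 => absurd (orderOf_dvd_of_pow_eq_one h1) ?_
    rw [hπ, show 2 ^ e + 2 ^ e = 2 ^ (e + 1) by ring]
    exact fun hd => absurd (Nat.le_of_dvd (by positivity) hd)
      (not_le.2 (Nat.pow_lt_pow_right (by norm_num) (by omega)))
  · rw [← pow_add, ← pow_add, ← h]
    ring_nf

theorem not_mem_K_y : ((sC D D.y : Ct D) : G) ∉ D.K := fun h =>
  (D.mem_K_y 0).1 (by simpa [sC] using h) (dvd_zero 2)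

theorem y_sq : sC D D.y * sC D D.y = 1 :=
  Subtype.ext (show (D.y : G) * D.y = 1 from congrArg Subtype.val D.qd.y_mul_y)

theorem y_conj_of_O {o : Ct D} (ho : (o : G) ∈ D.O) :
    sC D D.y * o * (sC D D.y)⁻¹ = o⁻¹ :=
  Subtype.ext (D.y_inv _ ho)

/-- Composition with an inner automorphism of `PGL₂`. -/
noncomputable def twist (h : GL (Fin 2) (ZMod H.r)) : Hom D where
  r := H.r
  hr := H.hr
  hr5 := H.hr5
  π := (MulAut.conj (ProjGenLinGroup.mk h : PGL(2, ZMod H.r))).toMonoidHom.comp H.π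
  surj := (MulAut.conj _).surjective.comp H.surj
  ker c := by
    rw [← H.ker c, MonoidHom.comp_apply]
    exact MulEquiv.map_eq_one_iff _
  r_O := H.r_O
  card_ct := H.card_ct
  card_pgl := H.card_pgl
  mem_K c := by
    haveI := H.hr
    rw [H.mem_K c]
    constructor
    · intro hc g hg
      have := hc (h⁻¹ * g * h) (by
        rw [map_mul, map_mul, map_inv, hg]
        simp [MulAut.conj_apply, mul_assoc])
      rw [← mul_inv_cancel_left₀ (GeneralLinearGroup.det_ne_zero h)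
        (g : Matrix (Fin 2) (Fin 2) (ZMod H.r)).det]
      simpa [det_mul, mul_comm, mul_left_comm, mul_assoc] using this
    · intro hc g hg
      have := hc (h * g * h⁻¹) (by
        rw [map_mul, map_mul, map_inv, hg]
        simp [MulAut.conj_apply])
      rw [← mul_inv_cancel_left₀ (GeneralLinearGroup.det_ne_zero h)
        (g : Matrix (Fin 2) (Fin 2) (ZMod H.r)).det]
      simpa [det_mul, mul_comm, mul_left_comm, mul_assoc] using this
  O_comm := H.O_comm

end Hom

/-- Some matrix over the image of an element outside `K` has nonsquare determinant. -/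
theorem exists_nonsquare (H : Hom D) {c : Ct D} (hc : (c : G) ∉ D.K) :
    ∃ g : GL (Fin 2) (ZMod H.r), ProjGenLinGroup.mk g = H.π c ∧
      ¬ IsSquare (g : Matrix (Fin 2) (Fin 2) (ZMod H.r)).det := by
  rw [H.mem_K] at hc
  simpa [not_forall] using hc

end H53.CSy
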