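import Cfsg.Agent.H53.CSy.ModelBase

/-!
The Borel subgroup of `C(t)` when its core is trivial.
-/

set_option autoImplicit false
set_option linter.style.haveILetI false
set_option linter.unusedSectionVars false

namespace H53.CSy

open Matrix MulAction
open scoped MatrixGroups LinearAlgebra.Projectivization

universe u

variable {G : Type u} [Group G] [Finite G] {D : H70.CSy.Setup G}

theorem two_ne_zero_zmod {r : ℕ} (hr5 : 5 ≤ r) : (2 : ZMod r) ≠ 0 := by
  intro h
  have : r ∣ 2 := (ZMod.natCast_eq_zero_iff 2 r).1 (by exact_mod_cast h)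
  have := Nat.le_of_dvd (by norm_num) this
  omega

theorem orderOf_un_one {r : ℕ} [Fact r.Prime] :
    orderOf (un (Multiplicative.ofAdd (1 : ZMod r))) = r := by
  rw [orderOf_injective _ un_injective, orderOf_ofAdd_eq_addOrderOf, ZMod.addOrderOf_one]

theorem un_range_eq {r : ℕ} [Fact r.Prime] :
    (un (F := ZMod r)).range = Subgroup.zpowers (un (Multiplicative.ofAdd (1 : ZMod r))) := by
  refine le_antisymm ?_ (Subgroup.zpowers_le.2 ⟨_, rfl⟩)
  rintro _ ⟨x, rfl⟩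
  refine Subgroup.mem_zpowers_iff.2 ⟨(x.toAdd.val : ℤ), ?_⟩
  rw [zpow_natCast, ← map_pow, ← ofAdd_nsmul, nsmul_one, ZMod.natCast_zmod_val, ofAdd_toAdd]

theorem borel_commutator {F : Type*} [Field F] {a b : PGL(2, F)}
    (ha : a ∈ stabilizer PGL(2, F) (inf (F := F))) (x : F) :
    a * un (Multiplicative.ofAdd x) * a⁻¹ ∈ (un (F := F)).range := by
  obtain ⟨c, s, rfl⟩ := mem_borel ha
  refine ⟨Multiplicative.ofAdd ((s : F) * x), ?_⟩
  rw [_root_.mul_inv_rev]
  calc un (Multiplicative.ofAdd ((s : F) * x))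
      = un (Multiplicative.ofAdd c) * un (Multiplicative.ofAdd ((s : F) * x)) *
          (un (Multiplicative.ofAdd c))⁻¹ := by
        rw [← map_inv, ← map_mul, ← map_mul, mul_comm (Multiplicative.ofAdd c), mul_inv_cancel_right]
    _ = un (Multiplicative.ofAdd c) * dg s * un (Multiplicative.ofAdd x) *
          ((dg s)⁻¹ * (un (Multiplicative.ofAdd c))⁻¹) := by
        rw [← dg_un]; group

theorem borel (H : Hom D) [Fact H.r.Prime] (hO : D.O = ⊥) {W : Subgroup G} {T T' m0 k : ℕ}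
    {η : ℤ} (hη : η = 1 ∨ η = -1) (hr1 : H.r - 1 = 2 ^ k * m0) (hm0 : Odd m0) (hk : 1 ≤ k)
    (h1 : η = 1 → m0 = T ∧ H.π (sC D D.y) ∈ (dg (F := ZMod H.r)).range ∧
      ∀ g : G, g ∈ W ↔ ∃ c : Ct D, (c : G) = g ∧ H.π c ∈ (dg (F := ZMod H.r)).range ∧ c ^ T = 1)
    (h2 : η = -1 → m0 = T' ∧ 2 ≤ k) : Nonempty (H70.CSy.Borel D.t W H.r T T' η) := by
  classical
  have hr5 := H.hr5
  haveI : Finite PGL(2, ZMod H.r) := Finite.of_surjective H.π H.surj
  have hF2 := two_ne_zero_zmod hr5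
  have hO1 : Nat.card D.O = 1 := Subgroup.card_eq_one.2 hO
  have good : ∀ m : ℕ, Odd m → Good D m := fun m hm => ⟨hm, by rw [hO1]; exact Nat.coprime_one_right m⟩
  have hrodd : Odd H.r := (Fact.out : H.r.Prime).odd_of_ne_two (by omega)
  have hcardC : Nat.card (Subgroup.centralizer ({D.t} : Set G)) = 2 * H.r * (H.r ^ 2 - 1) := by
    rw [H.card_ct, hO1, mul_one]
  have hker : ∀ c : Ct D, H.π c = 1 → c = 1 ∨ c = tC D := fun c hc => by
    obtain ⟨o, ho, e⟩ := (H.ker c).1 hc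
    have ho1 : o = 1 := Subgroup.mem_bot.1 (hO ▸ ho)
    rw [ho1, mul_one] at e
    exact e.imp (fun e => Subtype.ext e) (fun e => Subtype.ext e)
  have hcentral : ∀ c : Ct D, H.π c = 1 → ∀ a : Ct D, a * c = c * a := fun c hc a => by
    rcases hker c hc with rfl | rfl
    · rw [mul_one, one_mul]
    · exact (tC_comm a).symm
  have hsq : H.r ^ 2 - 1 = (H.r + 1) * (H.r - 1) := Nat.sq_sub_sq H.r 1
  -- the generators
  obtain ⟨δ, hδ⟩ := IsCyclic.exists_generator (α := (ZMod H.r)ˣ)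
  have hδo : orderOf δ = H.r - 1 := by
    rw [orderOf_eq_card_of_forall_mem_zpowers hδ, Nat.card_units, Nat.card_zmod]
  have hdgr : ∀ a, dg a ∈ Subgroup.zpowers (dg δ) := fun a => by
    obtain ⟨i, hi⟩ := Subgroup.mem_zpowers_iff.1 (hδ a)
    exact Subgroup.mem_zpowers_iff.2 ⟨i, by rw [← map_zpow, hi]⟩
  set u1 : PGL(2, ZMod H.r) := un (Multiplicative.ofAdd 1) with hu1
  have hu1o : orderOf u1 = H.r := orderOf_un_one
  obtain ⟨ρ0, hρπ, hρr⟩ := H.exists_lift (z := u1) (good _ hrodd)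
    (orderOf_dvd_iff_pow_eq_one.1 hu1o.dvd)
  have hρo : orderOf ρ0 = H.r := by rw [H.orderOf_lift (good _ hrodd) hρr, hρπ, hu1o]
  have hm0pos : 0 < m0 := hm0.pos
  have hd0o : orderOf (dg (δ ^ 2 ^ k)) = m0 := by
    rw [orderOf_injective _ dg_injective, orderOf_pow_of_dvd (by positivity)
      (by rw [hδo, hr1]; exact dvd_mul_right _ _), hδo, hr1, Nat.mul_div_cancel_left _ (by positivity)]
  obtain ⟨d0, hdπ, hdm⟩ := H.exists_lift (z := dg (δ ^ 2 ^ k)) (good _ hm0)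
    (orderOf_dvd_iff_pow_eq_one.1 hd0o.dvd)
  obtain ⟨e, heπ⟩ := H.surj (dg δ)
  obtain ⟨g0, hgπ⟩ := H.surj w0
  set Bc : Subgroup (Ct D) := (stabilizer PGL(2, ZMod H.r) (inf (F := ZMod H.r))).comap H.π
  let ι : Ct D →* G := (Subgroup.centralizer ({D.t} : Set G)).subtype
  set B : Subgroup G := Bc.map ι with hB
  set R : Subgroup G := (Subgroup.zpowers ρ0).map ι with hR
  set T₀ : Subgroup G := (Subgroup.zpowers d0).map ι with hT₀
  have memB : ∀ c : Ct D, (c : G) ∈ B ↔ H.π c • inf (F := ZMod H.r) = inf := fun c => by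
    constructor
    · rintro ⟨c', hc', e'⟩
      rw [← Subtype.ext (show (c' : G) = (c : G) from e')]
      exact hc'
    · exact fun h => ⟨c, h, rfl⟩
  have memR : ∀ c : Ct D, c ^ H.r = 1 → H.π c ∈ (un (F := ZMod H.r)).range → (c : G) ∈ R :=
    fun c hc h => ⟨c, H.mem_zpowers_of (good _ hrodd) hρr hc
      (by rw [hρπ, hu1, ← un_range_eq]; exact h), rfl⟩
  have powR : ∀ c ∈ Subgroup.zpowers ρ0, c ^ H.r = 1 ∧ ∃ x, H.π c = un (Multiplicative.ofAdd x) := by
    intro c hc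
    obtain ⟨i, rfl⟩ := Subgroup.mem_zpowers_iff.1 hc
    refine ⟨?_, ?_⟩
    · rw [← zpow_natCast, ← _root_.zpow_mul, mul_comm, _root_.zpow_mul, zpow_natCast, hρr,
        _root_.one_zpow]
    · obtain ⟨z, hz⟩ : H.π (ρ0 ^ i) ∈ (un (F := ZMod H.r)).range := by
        rw [map_zpow, hρπ]
        exact zpow_mem (MonoidHom.mem_range.2 ⟨_, rfl⟩) i
      exact ⟨z.toAdd, hz.symm⟩
  have powT : ∀ c ∈ Subgroup.zpowers d0, c ^ m0 = 1 ∧ ∃ a, H.π c = dg a := by
    intro c hc
    obtain ⟨i, rfl⟩ := Subgroup.mem_zpowers_iff.1 hc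
    refine ⟨?_, (δ ^ 2 ^ k) ^ i, by rw [map_zpow, hdπ, map_zpow]⟩
    rw [← zpow_natCast, ← _root_.zpow_mul, mul_comm, _root_.zpow_mul, zpow_natCast, hdm,
      _root_.one_zpow]
  have memT : ∀ c : Ct D, c ^ m0 = 1 → H.π c ∈ (dg (F := ZMod H.r)).range →
      c ∈ Subgroup.zpowers d0 := by
    rintro c hc ⟨a, ha⟩
    refine H.mem_zpowers_of (good _ hm0) hdm hc ?_
    obtain ⟨i, rfl⟩ := Subgroup.mem_zpowers_iff.1 (hδ a)
    have h : (δ ^ i) ^ (m0 : ℤ) = 1 := by
      refine dg_injective ?_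
      rw [map_zpow, ha, map_one, zpow_natCast, ← map_pow, hc, map_one]
    rw [← _root_.zpow_mul, ← orderOf_dvd_iff_zpow_eq_one, hδo, hr1] at h
    push_cast at h
    obtain ⟨j, rfl⟩ := Int.dvd_of_mul_dvd_mul_right (by exact_mod_cast hm0pos.ne') h
    refine Subgroup.mem_zpowers_iff.2 ⟨j, ?_⟩
    rw [hdπ, ← ha, ← map_zpow, ← zpow_natCast, ← _root_.zpow_mul]
    push_cast
    rfl
  have hB_conj : ∀ a : Ct D, (a : G) ∈ B → ∀ ρ ∈ Subgroup.zpowers ρ0,
      ((a * ρ * a⁻¹ : Ct D) : G) ∈ R := by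
    intro a ha ρ hρ
    obtain ⟨hρp, x, hx⟩ := powR ρ hρ
    refine memR _ (by rw [conj_pow, hρp, mul_one, mul_inv_cancel]) ?_
    rw [map_mul, map_mul, map_inv, hx]
    exact borel_commutator (a := H.π a) (b := 1) ((memB a).1 ha) x
  have hdec : ∀ b : Ct D, (b : G) ∈ B → ∃ ρ ∈ Subgroup.zpowers ρ0, ∃ (i : ℤ) (s : Ct D),
      H.π s = 1 ∧ b = ρ * (e ^ i * s) := by
    intro b hb
    obtain ⟨x, a, hxa⟩ := mem_borel ((memB b).1 hb)
    obtain ⟨i, hi⟩ := Subgroup.mem_zpowers_iff.1 (hdgr a)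
    obtain ⟨j, hj⟩ := Subgroup.mem_zpowers_iff.1
      ((un_range_eq (r := H.r)).le (MonoidHom.mem_range.2 ⟨Multiplicative.ofAdd x, rfl⟩))
    refine ⟨ρ0 ^ j, zpow_mem (Subgroup.mem_zpowers _) j, i, (ρ0 ^ j * e ^ i)⁻¹ * b, ?_,
      by group⟩
    rw [map_mul, map_inv, map_mul, map_zpow, map_zpow, hρπ, heπ, hi, hj, hxa, inv_mul_cancel]
  have hab : ∀ a ∈ B, ∀ b ∈ B, a * b * a⁻¹ * b⁻¹ ∈ R := by
    rintro _ ⟨a, ha, rfl⟩ _ ⟨b, hb, rfl⟩
    obtain ⟨ρ₁, hρ₁, i, s, hs, hau⟩ := hdec a ((memB a).2 ha)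
    obtain ⟨ρ₂, hρ₂, j, s', hs', hbv⟩ := hdec b ((memB b).2 hb)
    have heB : (e : G) ∈ B := (memB e).2 (by rw [heπ]; exact dg_mem δ)
    have hBs : ∀ (i : ℤ) (s : Ct D), H.π s = 1 → ((e ^ i * s : Ct D) : G) ∈ B := fun i s hs =>
      (memB _).2 (by
        rw [map_mul, hs, mul_one, map_zpow, heπ, ← map_zpow]
        exact dg_mem _)
    have huv : e ^ i * s * (e ^ j * s') = e ^ j * s' * (e ^ i * s) :=
      ((((Commute.refl e).zpow_zpow i j).mul_right (hcentral s' hs' _)).mul_left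
        (((hcentral s hs _).symm).trans rfl : s * (e ^ j * s') = e ^ j * s' * s))
    set u := e ^ i * s with hu
    set v := e ^ j * s' with hv
    have key : a * b * a⁻¹ * b⁻¹ =
        ρ₁ * (u * ρ₂ * u⁻¹) * (v * ρ₁⁻¹ * v⁻¹) * ρ₂⁻¹ := by
      have h3 : u * v * u⁻¹ = v := by rw [huv, mul_inv_cancel_right]
      rw [hau, hbv]
      calc ρ₁ * u * (ρ₂ * v) * (ρ₁ * u)⁻¹ * (ρ₂ * v)⁻¹
          = ρ₁ * (u * ρ₂ * u⁻¹) * ((u * v * u⁻¹) * ρ₁⁻¹ * v⁻¹) * ρ₂⁻¹ := by group
        _ = _ := by rw [h3]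
    show ((a * b * a⁻¹ * b⁻¹ : Ct D) : G) ∈ R
    rw [key]
    exact mul_mem (mul_mem (mul_mem ⟨_, hρ₁, rfl⟩ (hB_conj u (hBs i s hs) _ hρ₂))
      (hB_conj v (hBs j s' hs') _ (inv_mem hρ₁))) ⟨_, inv_mem hρ₂, rfl⟩
  have hRB : R ≤ B := by
    rintro _ ⟨c, hc, rfl⟩
    obtain ⟨-, x, hx⟩ := powR c hc
    exact (memB c).2 (by rw [hx]; exact un_mem _)
  have hTB : T₀ ≤ B := by
    rintro _ ⟨c, hc, rfl⟩
    obtain ⟨-, a, ha⟩ := powT c hc
    exact (memB c).2 (by rw [ha]; exact dg_mem _)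
  have hcR : Nat.card R = H.r := by
    rw [hR, Subgroup.card_map_of_injective (Subgroup.subtype_injective _), Nat.card_zpowers, hρo]
  have hcT : Nat.card T₀ = m0 := by
    rw [hT₀, Subgroup.card_map_of_injective (Subgroup.subtype_injective _), Nat.card_zpowers,
      H.orderOf_lift (good _ hm0) hdm, hdπ, hd0o]
  have hstab : Nat.card (stabilizer PGL(2, ZMod H.r) (inf (F := ZMod H.r))) = H.r * (H.r - 1) := by
    have h := card_borel (F := ZMod H.r)
    rw [H.card_pgl, Nat.card_zmod, hsq] at h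
    refine Nat.eq_of_mul_eq_mul_left (show 0 < H.r + 1 by omega) ?_
    rw [← h]; ring
  have hcB : Nat.card B = 2 * H.r * (H.r - 1) := by
    rw [hB, Subgroup.card_map_of_injective (Subgroup.subtype_injective _), H.card_comap, hO1,
      hstab]
    ring
  have hgen : ∀ x ∈ B, ∀ h ∈ R ⊔ T₀, x * h * x⁻¹ ∈ R ⊔ T₀ := fun x hx h hh => by
    have := mul_mem (Subgroup.mem_sup_left (T := T₀) (hab x hx h ((sup_le hRB hTB) hh))) hh
    rwa [inv_mul_cancel_right] at this
  refine ⟨{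
    card_ct := hcardC
    g₀ := (g0 : G), B := B, R := R, T₀ := T₀
    B_le := Subgroup.map_subtype_le _
    R_le := hRB
    T₀_le := hTB
    card_R := hcR
    T₀_odd := by rw [hcT]; exact hm0
    card_T₀ := ?card_T₀
    T₀_W := ?T₀_W
    B_normR := ?B_normR
    B_normH := ?B_normH
    H_index := ?H_index
    B_index := ?B_index
    t_mem_B := (memB (tC D)).2 (by rw [H.pi_t, one_smul])
    B_ab := hab
    T₀_fpf := ?T₀_fpf
    two_trans := ?two_trans
    g₀_mem := g0.2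
    g₀_notMem := fun h => w0_not_mem (hgπ ▸ (memB g0).1 h)
    g₀_inv := ?g₀_inv
    cent_d := ?cent_d
    fix_d := ?fix_d
    R_conj := ?R_conj
    card_cR := ?card_cR
    e := (e : G)
    e_mem := (memB e).2 (by rw [heπ]; exact dg_mem δ)
    e_ord := ?e_ord
    e_pow := ?e_pow
    split_invol := ?split_invol }⟩
  case card_T₀ =>
    rw [hcT]
    rcases hη with h | h
    · rw [if_pos h, (h1 h).1]
    · rw [if_neg (by omega), (h2 h).1]
  case T₀_W =>
    intro h
    obtain ⟨hm, -, hW⟩ := h1 h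
    ext g
    rw [hW]
    constructor
    · rintro ⟨c, hc, rfl⟩
      obtain ⟨hp, a, ha⟩ := powT c hc
      exact ⟨c, rfl, ⟨a, ha.symm⟩, hm ▸ hp⟩
    · rintro ⟨c, rfl, hc, hp⟩
      exact ⟨c, memT c (hm ▸ hp) hc, rfl⟩
  case B_normR =>
    intro x hx
    rw [Subgroup.mem_normalizer_iff]
    obtain ⟨a, ha, rfl⟩ := hx
    intro g
    constructor
    · rintro ⟨ρ, hρ, rfl⟩
      exact hB_conj a ((memB a).2 ha) ρ hρ
    · rintro ⟨ρ, hρ, e'⟩
      have := hB_conj a⁻¹ ((memB _).2 (inv_mem ha)) ρ hρ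
      have e2 : ((a⁻¹ * ρ * a⁻¹⁻¹ : Ct D) : G) = g := by
        push_cast
        rw [show (ρ : G) = (a : G) * g * (a : G)⁻¹ from e']
        group
      rwa [e2] at this
  case B_normH =>
    intro x hx
    rw [Subgroup.mem_normalizer_iff]
    intro g
    constructor
    · exact hgen x hx g
    · intro hg
      have := hgen x⁻¹ (inv_mem hx) _ hg
      simpa [mul_assoc] using this
  case H_index =>
    have h := ((R ⊔ T₀).subgroupOf B).card_mul_index
    rw [Nat.card_congr (Subgroup.subgroupOfEquivOfLe (sup_le hRB hTB)).toEquiv, hcB, hr1] at h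
    have hd : H.r * m0 ∣ Nat.card (R ⊔ T₀ : Subgroup G) := by
      refine Nat.Coprime.mul_dvd_of_dvd_of_dvd ?_ (hcR ▸ Subgroup.card_dvd_of_le le_sup_left)
        (hcT ▸ Subgroup.card_dvd_of_le le_sup_right)
      refine ((Fact.out : H.r.Prime).coprime_iff_not_dvd).2 fun hd => ?_
      have h3 := Nat.le_of_dvd hm0pos hd
      have : m0 ≤ 2 ^ k * m0 := Nat.le_mul_of_pos_left _ (by positivity)
      omega
    obtain ⟨q, hq⟩ := hd
    have h4 : (R ⊔ T₀).relIndex B ∣ 2 ^ (k + 1) := by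
      refine ⟨q, Nat.eq_of_mul_eq_mul_left (show 0 < H.r * m0 by positivity) ?_⟩
      rw [Subgroup.relIndex, show H.r * m0 * (((R ⊔ T₀).subgroupOf B).index * q) =
        H.r * m0 * q * ((R ⊔ T₀).subgroupOf B).index by ring, ← hq, h, pow_succ]
      ring
    obtain ⟨i, -, hi⟩ := (Nat.dvd_prime_pow Nat.prime_two).1 h4
    exact ⟨i, hi⟩
  case B_index =>
    rw [hcardC, hcB, hsq]
    ring
  case T₀_fpf =>
    rintro _ ⟨d, hd, rfl⟩ hd1 _ ⟨ρ, hρ, rfl⟩ hρ1 hc
    obtain ⟨hdp, a, ha⟩ := powT d hd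
    obtain ⟨hρp, x, hx⟩ := powR ρ hρ
    have hc' : ρ * d = d * ρ := Subtype.ext hc
    have h := congrArg H.π hc'
    rw [map_mul, map_mul, ha, hx, eq_comm, ← mul_inv_eq_iff_eq_mul, dg_un] at h
    have := Multiplicative.ofAdd.injective (un_injective h)
    rcases eq_or_ne x 0 with rfl | hx0
    · refine hρ1 ?_
      rw [ofAdd_zero, map_one] at hx
      rw [H.eq_one (good _ hrodd) hρp hx, map_one]
    · refine hd1 ?_
      have ha1 : a = 1 := Units.ext (mul_right_cancel₀ hx0 (by rw [this, Units.val_one, one_mul]))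
      rw [ha1, map_one] at ha
      rw [H.eq_one (good _ hm0) hdp ha, map_one]
  case two_trans =>
    intro g hg hgB
    set gC : Ct D := ⟨g, hg⟩
    set p : ℙ (ZMod H.r) (Fin 2 → ZMod H.r) := H.π gC • inf with hp
    have hpi : p ≠ inf := fun h => hgB ((memB gC).2 h)
    letI : MulAction Bc (ℙ (ZMod H.r) (Fin 2 → ZMod H.r)) :=
      MulAction.compHom _ (H.π.comp Bc.subtype)
    have horb : orbit Bc p = {inf}ᶜ := by
      ext q
      constructor
      · rintro ⟨b, rfl⟩ h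
        refine hpi ?_
        change H.π (b : Ct D) • p = inf at h
        exact (smul_left_cancel _ (h.trans (show H.π (b : Ct D) • inf = inf from b.2).symm))
      · intro hq
        obtain ⟨β, hβ, hβq⟩ := borel_trans hpi hq
        obtain ⟨b, rfl⟩ := H.surj β
        exact ⟨⟨b, hβ⟩, hβq⟩
    haveI : Finite (ℙ (ZMod H.r) (Fin 2 → ZMod H.r)) := Nat.finite_of_card_ne_zero (by
      rw [Projectivization.card_of_finrank_two _ _ (by simp)]; omega)
    have h3 : (stabilizer Bc p).index = H.r := by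
      rw [index_stabilizer, horb, Set.ncard_compl, Set.ncard_singleton,
        Projectivization.card_of_finrank_two _ _ (by simp), Nat.card_zmod]
      omega
    have h4 := (stabilizer Bc p).card_mul_index
    rw [h3] at h4
    have hiff : ∀ b : Ct D, ((gC⁻¹ * b * gC : Ct D) : G) ∈ B ↔ H.π b • p = p := fun b => by
      rw [memB, map_mul, map_mul, map_inv, mul_smul, mul_smul, inv_smul_eq_iff, hp]
    rw [hB, Subgroup.card_map_of_injective (Subgroup.subtype_injective _), ← h4, mul_comm]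
    congr 1
    refine (Nat.card_eq_of_bijective (fun b : stabilizer Bc p =>
      (⟨(((b : Bc) : Ct D) : G), ⟨_, (b : Bc).2, rfl⟩, (hiff _).2 b.2⟩ :
        {b : G // b ∈ Bc.map ι ∧ g⁻¹ * b * g ∈ Bc.map ι})) ⟨?_, ?_⟩).symm
    · intro a b h
      have h' := congrArg Subtype.val h
      exact Subtype.ext (Subtype.ext (Subtype.ext h'))
    · rintro ⟨x, ⟨b, hb, rfl⟩, hx⟩
      exact ⟨⟨⟨b, hb⟩, (hiff b).1 hx⟩, rfl⟩
  case g₀_inv =>
    rintro _ ⟨d, hd, rfl⟩
    obtain ⟨hdp, a, ha⟩ := powT d hd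
    refine congrArg Subtype.val (H.conj_eq (good _ hm0) hdp (e := d⁻¹)
      (by rw [inv_pow, hdp, inv_one]) ?_)
    rw [hgπ, ha, w0_dg, map_inv, ha]
  case cent_d =>
    rintro _ ⟨d, hd, rfl⟩ hd1
    obtain ⟨hdp, a, ha⟩ := powT d hd
    show Nat.card (Subgroup.centralizer ({D.t, (d : G)} : Set G)) * _ = _
    rw [H.card_cent (good _ hm0) hdp, hO1, hcardC, hsq]
    have hπ1 : H.π d ≠ 1 := fun h => hd1 (by rw [H.eq_one (good _ hm0) hdp h, map_one])
    have hdvd : orderOf (H.π d) ∣ m0 := orderOf_dvd_of_pow_eq_one (by rw [← map_pow, hdp, map_one])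
    have hco : (orderOf (H.π d)).Coprime (Nat.card (ZMod H.r)) := by
      rw [Nat.card_zmod]
      refine Nat.Coprime.coprime_dvd_left hdvd (Nat.Coprime.symm
        ((Fact.out : H.r.Prime).coprime_iff_not_dvd.2 fun hd => ?_))
      have h3 := Nat.le_of_dvd hm0pos hd
      have : m0 ≤ 2 ^ k * m0 := Nat.le_mul_of_pos_left _ (by positivity)
      omega
    obtain ⟨-, hcard, -⟩ := torus hF2 hπ1 (Odd.of_dvd_nat hm0 hdvd) hco
    rw [Nat.card_zmod] at hcard
    rcases hcard with hcard | hcard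
    · rw [hcard]; ring
    · exfalso
      have hle : (dg (F := ZMod H.r)).range ≤ Subgroup.centralizer {H.π d} := by
        rintro _ ⟨b, rfl⟩
        rw [Subgroup.mem_centralizer_singleton_iff, ha, ← map_mul, ← map_mul, mul_comm]
      have h3 := Subgroup.card_dvd_of_le hle
      rw [hcard, Nat.card_congr (MonoidHom.ofInjective dg_injective).symm.toEquiv,
        Nat.card_units, Nat.card_zmod] at h3
      have h4 : H.r - 1 ∣ 2 := by
        have := Nat.dvd_sub h3 (dvd_refl (H.r - 1))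
        rwa [show H.r + 1 - (H.r - 1) = 2 by omega] at this
      have := Nat.le_of_dvd (by norm_num) h4
      omega
  case fix_d =>
    rintro _ ⟨d, hd, rfl⟩ hd1 g hg hgd
    obtain ⟨hdp, a, ha⟩ := powT d hd
    set gC : Ct D := ⟨g, hg⟩
    have ha1 : a ≠ 1 := fun h => hd1 (by
      rw [H.eq_one (good _ hm0) hdp (by rw [ha, h, map_one]), map_one])
    have hfix : dg a • (H.π gC • inf (F := ZMod H.r)) = H.π gC • inf := by
      have h := (memB (gC⁻¹ * d * gC)).1 hgd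
      rwa [map_mul, map_mul, map_inv, mul_smul, mul_smul, inv_smul_eq_iff, ha] at h
    rcases fix_dg ha1 hfix with h | h
    · exact Or.inl ((memB gC).2 h)
    · refine Or.inr ((memB (g0⁻¹ * gC)).2 ?_)
      rw [map_mul, map_inv, mul_smul, h, hgπ, inv_smul_smul]
  case R_conj =>
    intro d hd hdo
    set dC : Ct D := ⟨d, hd⟩
    have hdo' : orderOf dC = H.r := by rw [← Subgroup.orderOf_coe]; exact hdo
    have hdr : dC ^ H.r = 1 := orderOf_dvd_iff_pow_eq_one.1 hdo'.dvd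
    have hidx : ¬ H.r ∣ (un (F := ZMod H.r)).range.index := by
      intro h
      have h3 := (un (F := ZMod H.r)).range.card_mul_index
      rw [H.card_pgl, Nat.card_congr (MonoidHom.ofInjective un_injective).symm.toEquiv,
        Nat.card_congr Multiplicative.toAdd, Nat.card_zmod] at h3
      rw [Nat.eq_of_mul_eq_mul_left (by omega) h3] at h
      have h4 : H.r ∣ H.r ^ 2 - (H.r ^ 2 - 1) := Nat.dvd_sub (dvd_pow_self _ two_ne_zero) h
      have h25 : 25 ≤ H.r ^ 2 := by nlinarith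
      rw [show H.r ^ 2 - (H.r ^ 2 - 1) = 1 by omega] at h4
      have := Nat.le_of_dvd one_pos h4
      omega
    obtain ⟨z, hz⟩ := exists_conj_mem (Fact.out : H.r.Prime) hidx
      (z := H.π dC) (by rw [← H.orderOf_lift (good _ hrodd) hdr, hdo'])
    obtain ⟨gC, rfl⟩ := H.surj z
    exact ⟨gC, gC.2, memR (gC * dC * gC⁻¹) (by rw [conj_pow, hdr, mul_one, mul_inv_cancel])
      (by rwa [map_mul, map_mul, map_inv])⟩
  case card_cR =>
    have he : Subgroup.centralizer (insert D.t (R : Set G)) =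
        Subgroup.centralizer ({D.t, (ρ0 : G)} : Set G) := by
      refine le_antisymm (Subgroup.centralizer_le ?_) ?_
      · rintro z (rfl | rfl)
        · exact Or.inl rfl
        · exact Or.inr ⟨ρ0, Subgroup.mem_zpowers _, rfl⟩
      · intro g hg
        rw [Subgroup.mem_centralizer_iff] at hg ⊢
        rintro z (rfl | ⟨c, hc, rfl⟩)
        · exact hg _ (Or.inl rfl)
        · obtain ⟨i, rfl⟩ := Subgroup.mem_zpowers_iff.1 hc
          rw [map_zpow]
          exact ((show Commute (ρ0 : G) g from hg _ (Or.inr rfl)).zpow_left i).eq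
    rw [he, H.card_cent (good _ hrodd) hρr, hO1, hρπ, hu1, centralizer_un hF2 one_ne_zero,
      Nat.card_congr (MonoidHom.ofInjective un_injective).symm.toEquiv,
      Nat.card_congr Multiplicative.toAdd, Nat.card_zmod]
  case e_ord =>
    intro h
    obtain ⟨-, hk2⟩ := h2 h
    rw [Subgroup.orderOf_coe]
    have hpi : orderOf (H.π e) = H.r - 1 := by rw [heπ, orderOf_injective _ dg_injective, hδo]
    have he2 : e ^ ((H.r - 1) * 2) = 1 := by
      rw [pow_mul]
      have := H.ker_pow (c := e ^ (H.r - 1)) (by rw [map_pow, ← hpi, pow_orderOf_eq_one])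
      rwa [hO1, mul_one] at this
    obtain ⟨j, hj⟩ : H.r - 1 ∣ orderOf e := hpi ▸ orderOf_map_dvd _ _
    have hj2 : j ∣ 2 := Nat.dvd_of_mul_dvd_mul_left (show 0 < H.r - 1 by omega)
      (hj ▸ orderOf_dvd_of_pow_eq_one he2)
    rcases (Nat.dvd_prime Nat.prime_two).1 hj2 with rfl | rfl
    · exfalso
      obtain ⟨q, hq⟩ : 4 ∣ H.r - 1 := by
        rw [hr1]
        exact Dvd.dvd.mul_right (pow_dvd_pow 2 hk2) _
      refine H.sq_sq_ne_one (c := e ^ q) ?_ ?_
      · rw [← pow_add, map_pow]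
        intro h3
        have := Nat.le_of_dvd (by omega) (hpi ▸ orderOf_dvd_of_pow_eq_one h3)
        omega
      · rw [← pow_add, ← pow_add, show q + q + (q + q) = orderOf e by omega, pow_orderOf_eq_one]
    · rw [hj, mul_comm]
  case e_pow =>
    intro i hi
    have h3 : e ^ i * ρ0 * (e ^ i)⁻¹ = ρ0 :=
      Subtype.ext (by simpa using hi (ρ0 : G) ⟨ρ0, Subgroup.mem_zpowers _, rfl⟩)
    have h4 := congrArg H.π h3
    rw [map_mul, map_mul, map_inv, map_pow, heπ, ← map_pow, hρπ, hu1, dg_un, mul_one] at h4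
    have h5 : δ ^ i = 1 := Units.ext (Multiplicative.ofAdd.injective (un_injective h4))
    exact hδo ▸ orderOf_dvd_of_pow_eq_one h5
  case split_invol =>
    intro h
    obtain ⟨-, ⟨a, ha⟩, -⟩ := h1 h
    refine ⟨(sC D D.y : Ct D), (memB _).2 (by rw [← ha]; exact dg_mem a), ?_, ?_⟩
    · show orderOf ((D.y : ↥(D.S : Subgroup G)) : G) = 2
      rw [Subgroup.orderOf_coe, D.qd.ordy]
    · intro e'
      refine Hom.not_mem_K_y (D := D) ?_
      rw [e']
      exact D.t_mem_K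

end H53.CSy
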