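import Mathlib
import Cfsg.Agent.H40.GL2Classes
import Cfsg.Agent.H37.Card

/-!
Centralisers in `PGL₂` of semisimple elements.
-/

set_option autoImplicit false
set_option linter.style.haveILetI false
set_option linter.unusedSectionVars false

namespace H53.CSy

open Matrix
open scoped MatrixGroups

variable {F : Type*} [Field F]

/-- The projection to `PGL₂`. -/
abbrev pm : GL (Fin 2) F →* PGL(2, F) := ProjGenLinGroup.mk

local notation "M2" => Matrix (Fin 2) (Fin 2) F

/-- A non-scalar invertible matrix. -/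
def NS (g : GL (Fin 2) F) : Prop := ¬ H40.IsScalar2 (g : M2)

/-- The image of the centraliser. -/
def Tor (g : GL (Fin 2) F) : Subgroup PGL(2, F) := (Subgroup.centralizer {g}).map pm

theorem scalar_val (c : Fˣ) :
    ((GeneralLinearGroup.scalar (Fin 2) c : GL (Fin 2) F) : M2) = (c : F) • 1 := by
  ext i j
  fin_cases i <;> fin_cases j <;> simp

theorem pm_eq_one_iff {g : GL (Fin 2) F} : pm g = 1 ↔ H40.IsScalar2 (g : M2) := by
  rw [ProjGenLinGroup.mk_eq_one, GeneralLinearGroup.center_eq_range_scalar]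
  constructor
  · rintro ⟨c, rfl⟩
    simp [H40.IsScalar2]
  · rintro ⟨h01, h10, h00⟩
    have hne : (g : M2) 0 0 ≠ 0 := by
      intro h0
      have := GeneralLinearGroup.det_ne_zero g
      rw [det_fin_two, h0, h01, zero_mul, zero_mul, sub_self] at this
      exact this rfl
    refine ⟨Units.mk0 _ hne, Units.ext ?_⟩
    rw [scalar_val]
    ext i j
    fin_cases i <;> fin_cases j <;> simp [h01, h10, ← h00]

theorem mem_Tor {g : GL (Fin 2) F} {x : PGL(2, F)} :
    x ∈ Tor g ↔ ∃ h : GL (Fin 2) F, h * g = g * h ∧ pm h = x := by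
  rw [Tor, Subgroup.mem_map]
  simp only [Subgroup.mem_centralizer_singleton_iff]

theorem self_mem_Tor (g : GL (Fin 2) F) : pm g ∈ Tor g := mem_Tor.2 ⟨g, rfl, rfl⟩

theorem exists_poly {g h : GL (Fin 2) F} (hg : NS g) (hh : h * g = g * h) :
    ∃ a b : F, (h : M2) = a • 1 + b • (g : M2) :=
  H40.comm_eq_poly hg (by rw [← Units.val_mul, ← Units.val_mul, hh])

theorem commute_of_poly {g h : GL (Fin 2) F} {a b : F} (e : (h : M2) = a • 1 + b • (g : M2)) :
    h * g = g * h := by
  refine Units.ext ?_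
  rw [Units.val_mul, Units.val_mul, e, H40.commute_poly]

theorem sq_eq {g : M2} : g * g = g.trace • g - g.det • 1 := by
  ext i j
  fin_cases i <;> fin_cases j <;> simp [Matrix.mul_apply, trace_fin_two, det_fin_two] <;> ring

theorem poly_mul {g : M2} (a b a' b' : F) :
    (a • (1 : M2) + b • g) * (a' • 1 + b' • g) =
      (a * a' - b * b' * g.det) • 1 + (a * b' + a' * b + b * b' * g.trace) • g := by
  ext i j
  fin_cases i <;> fin_cases j <;>
    simp [Matrix.mul_apply, trace_fin_two, det_fin_two] <;> ring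

/-- The centraliser is abelian. -/
theorem comm_of_centralizer {g x z : GL (Fin 2) F} (hg : NS g) (hx : x * g = g * x)
    (hz : z * g = g * z) : x * z = z * x := by
  obtain ⟨a, b, e⟩ := exists_poly hg hx
  obtain ⟨a', b', e'⟩ := exists_poly hg hz
  refine Units.ext ?_
  rw [Units.val_mul, Units.val_mul, e, e', poly_mul, poly_mul]
  congr 2 <;> ring

theorem Tor_comm {g : GL (Fin 2) F} (hg : NS g) {x z : PGL(2, F)} (hx : x ∈ Tor g)
    (hz : z ∈ Tor g) : x * z = z * x := by
  obtain ⟨x', hx', rfl⟩ := mem_Tor.1 hx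
  obtain ⟨z', hz', rfl⟩ := mem_Tor.1 hz
  rw [← map_mul, ← map_mul, comm_of_centralizer hg hx' hz']

/-- A nontrivial element of a torus determines it. -/
theorem Tor_eq {g x : GL (Fin 2) F} (hg : NS g) (hx : x * g = g * x) (hxs : NS x) :
    Tor x = Tor g := by
  obtain ⟨a, b, e⟩ := exists_poly hg hx
  have hb : b ≠ 0 := by
    rintro rfl
    refine hxs ?_
    rw [e]
    simp [H40.IsScalar2]
  have hgx : ((g : GL (Fin 2) F) : M2) = (-a / b) • 1 + b⁻¹ • (x : M2) := by
    rw [e, smul_add, smul_smul, smul_smul, ← add_assoc, ← add_smul, inv_mul_cancel₀ hb, one_smul,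
      show -a / b + b⁻¹ * a = 0 by field_simp; ring, zero_smul, zero_add]
  ext z
  simp only [mem_Tor]
  constructor <;> rintro ⟨h, hh, rfl⟩ <;> refine ⟨h, ?_, rfl⟩
  · exact comm_of_centralizer hxs hh (commute_of_poly hgx)
  · exact comm_of_centralizer hg hh hx

/-- Conjugation up to a scalar: the scalar is `±1`. -/
theorem pm_commute_cases {g h : GL (Fin 2) F} (hc : pm h * pm g = pm g * pm h) :
    h * g = g * h ∨ ((h * g * h⁻¹ : GL (Fin 2) F) : M2) = -(g : M2) := by
  rw [← map_mul, ← map_mul, ProjGenLinGroup.mk_eq_mk_iff] at hc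
  obtain ⟨u, hu⟩ := hc
  have hconj : ((h * g * h⁻¹ : GL (Fin 2) F) : M2) = (↑u⁻¹ : F) • (g : M2) := by
    have h1 : h * g * h⁻¹ = g * GeneralLinearGroup.scalar (Fin 2) u⁻¹ := by
      rw [mul_inv_eq_iff_eq_mul, mul_assoc, map_inv]
      rw [show (GeneralLinearGroup.scalar (Fin 2) u)⁻¹ * h = h * (GeneralLinearGroup.scalar (Fin 2) u)⁻¹
        from (Commute.inv_left (GeneralLinearGroup.scalar_commute u h)).eq, ← mul_assoc, ← hu,
        mul_inv_cancel_right]
    rw [h1, Units.val_mul, scalar_val, Matrix.mul_smul, Matrix.mul_one]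
  have hdet := congrArg Matrix.det hconj
  rw [det_smul, Fintype.card_fin, Units.val_mul, Units.val_mul, Matrix.det_units_conj] at hdet
  have h1 : (↑u⁻¹ : F) * ↑u⁻¹ = 1 := by
    rw [← pow_two]
    exact (mul_eq_right₀ (GeneralLinearGroup.det_ne_zero g)).1 hdet.symm
  rcases mul_self_eq_one_iff.1 h1 with e | e
  · left
    rw [← mul_inv_eq_iff_eq_mul]
    exact Units.ext (by rw [hconj, e, one_smul])
  · right
    rw [hconj, e, neg_one_smul]

theorem centralizer_le_Tor {g : GL (Fin 2) F} (htr : (g : M2).trace ≠ 0) (h2 : (2 : F) ≠ 0) :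
    Subgroup.centralizer {pm g} = Tor g := by
  ext x
  rw [Subgroup.mem_centralizer_singleton_iff, mem_Tor]
  constructor
  · intro hx
    obtain ⟨h, rfl⟩ := ProjGenLinGroup.mk_surjective x
    rcases pm_commute_cases hx with e | e
    · exact ⟨h, e, rfl⟩
    · exfalso
      have ht := congrArg Matrix.trace e
      rw [trace_neg, Units.val_mul, trace_mul_comm, Units.val_mul, ← Matrix.mul_assoc,
        ← Units.val_mul, inv_mul_cancel, Units.val_one, Matrix.one_mul] at ht
      have h0 : (2 : F) * (g : M2).trace = 0 := by linear_combination ht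
      exact htr ((mul_eq_zero.1 h0).resolve_left h2)
  · rintro ⟨h, hh, rfl⟩
    rw [← map_mul, ← map_mul, hh]

/-- An element swapping the eigenvalues inverts the torus. -/
theorem inv_of_adj {g h : GL (Fin 2) F} (hg : NS g)
    (hh : ((h * g * h⁻¹ : GL (Fin 2) F) : M2) = (g : M2).trace • 1 - (g : M2)) {x : PGL(2, F)}
    (hx : x ∈ Tor g) : pm h * x * (pm h)⁻¹ = x⁻¹ := by
  obtain ⟨z, hz, rfl⟩ := mem_Tor.1 hx
  obtain ⟨a, b, e⟩ := exists_poly hg hz
  rw [← map_inv, ← map_mul, ← map_mul, eq_inv_iff_mul_eq_one, ← map_mul, pm_eq_one_iff]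
  have hc : ((h * z * h⁻¹ : GL (Fin 2) F) : M2) = a • 1 + b • ((g : M2).trace • 1 - (g : M2)) := by
    rw [← hh]
    simp only [Units.val_mul, e, Matrix.mul_add, Matrix.add_mul, Matrix.mul_smul, Matrix.smul_mul,
      Matrix.mul_one]
    rw [← Units.val_mul h h⁻¹, mul_inv_cancel, Units.val_one]
  rw [Units.val_mul, hc, e, smul_sub, smul_smul, sub_eq_add_neg, ← add_assoc, ← add_smul,
    ← neg_smul, poly_mul]
  rw [show (a + b * (g : M2).trace) * b + a * -b + -b * b * (g : M2).trace = 0 by ring, zero_smul,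
    add_zero]
  simp [H40.IsScalar2]

theorem exists_inverter {g : GL (Fin 2) F} (hg : NS g) :
    ∃ h : GL (Fin 2) F, ((h * g * h⁻¹ : GL (Fin 2) F) : M2) = (g : M2).trace • 1 - (g : M2) := by
  have hdet : ((g : M2).trace • (1 : M2) - (g : M2)).det = (g : M2).det := by
    simp [det_fin_two, trace_fin_two]
    ring
  let g' : GL (Fin 2) F := GeneralLinearGroup.mkOfDetNeZero ((g : M2).trace • 1 - (g : M2))
    (by rw [hdet]; exact GeneralLinearGroup.det_ne_zero g)
  have hval : (g' : M2) = (g : M2).trace • 1 - (g : M2) := rfl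
  suffices hc : IsConj g g' by
    obtain ⟨h, hh⟩ := isConj_iff.1 hc
    exact ⟨h, by rw [hh, hval]⟩
  refine (H40.isConj_GL2_iff (h := g') hg).2 ⟨?_, ?_, ?_⟩
  · rw [hval]
    intro ⟨h01, h10, h00⟩
    refine hg ⟨by simpa using h01, by simpa using h10, ?_⟩
    simp [trace_fin_two] at h00
    linear_combination -h00
  · rw [hval]
    simp [trace_fin_two]
    ring
  · rw [hval, hdet]

section Fin

variable [Finite F]

/-- The centraliser in `GL₂` as pairs. -/
theorem card_centralizer_eq {g : GL (Fin 2) F} (hg : NS g) :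
    Nat.card (Subgroup.centralizer {g}) =
      Nat.card {p : F × F // (p.1 • (1 : M2) + p.2 • (g : M2)).det ≠ 0} := by
  let f : {p : F × F // (p.1 • (1 : M2) + p.2 • (g : M2)).det ≠ 0} → Subgroup.centralizer {g} :=
    fun p => ⟨GeneralLinearGroup.mkOfDetNeZero (p.1.1 • (1 : M2) + p.1.2 • (g : M2)) p.2,
      Subgroup.mem_centralizer_singleton_iff.2 (commute_of_poly (a := p.1.1) (b := p.1.2) rfl)⟩
  have hf : ∀ p, (((f p : Subgroup.centralizer {g}) : GL (Fin 2) F) : M2) =
      p.1.1 • (1 : M2) + p.1.2 • (g : M2) := fun _ => rfl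
  refine (Nat.card_eq_of_bijective f ⟨?_, ?_⟩).symm
  · intro p p' e
    have e' := congrArg (fun z : Subgroup.centralizer {g} => ((z : GL (Fin 2) F) : M2)) e
    simp only [hf] at e'
    exact Subtype.ext (Prod.ext (H40.poly_injective hg e').1 (H40.poly_injective hg e').2)
  · intro z
    obtain ⟨a, b, e⟩ := exists_poly hg (Subgroup.mem_centralizer_singleton_iff.1 z.2)
    refine ⟨⟨(a, b), ?_⟩, Subtype.ext (Units.ext ?_)⟩
    · rw [← e]; exact GeneralLinearGroup.det_ne_zero _
    · rw [hf]; exact e.symm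

theorem card_units_eq : Nat.card Fˣ = Nat.card F - 1 := Nat.card_units F

theorem card_centralizer_eq_mul {g : GL (Fin 2) F} :
    Nat.card (Subgroup.centralizer {g}) = (Nat.card F - 1) * Nat.card (Tor g) := by
  let f := (pm (F := F)).domRestrict (Subgroup.centralizer {g})
  have hker : Nat.card f.ker = Nat.card Fˣ := by
    refine (Nat.card_eq_of_bijective (fun c : Fˣ => (⟨⟨GeneralLinearGroup.scalar (Fin 2) c,
      Subgroup.mem_centralizer_singleton_iff.2 (GeneralLinearGroup.scalar_commute c g)⟩,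
      ProjGenLinGroup.mk_scalar c⟩ : f.ker)) ⟨?_, ?_⟩).symm
    · intro c c' e
      have e' := congrArg (fun z : f.ker => (((z : Subgroup.centralizer {g}) : GL (Fin 2) F) : M2) 0 0) e
      simp at e'
      exact Units.ext e'
    · rintro ⟨⟨z, hz⟩, hz1⟩
      have hz' : z ∈ Subgroup.center (GL (Fin 2) F) := ProjGenLinGroup.mk_eq_one.1 hz1
      rw [GeneralLinearGroup.center_eq_range_scalar] at hz'
      obtain ⟨c, rfl⟩ := hz'
      exact ⟨c, rfl⟩
  have hrange : f.range = Tor g := MonoidHom.domRestrict_range _ _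
  rw [← card_units_eq, ← hker, ← hrange, ← Subgroup.index_ker f, mul_comm,
    Subgroup.index_mul_card]

/-- The order of a torus, split case. -/
theorem card_Tor_split (h2 : (2 : F) ≠ 0) {g : GL (Fin 2) F} (hg : NS g) {s : F} (hs : s ≠ 0)
    (hd : s * s = (g : M2).trace ^ 2 - 4 * (g : M2).det) : Nat.card (Tor g) = Nat.card F - 1 := by
  have hq : 0 < Nat.card F - 1 := by rw [← card_units_eq]; exact Nat.card_pos
  refine Nat.eq_of_mul_eq_mul_left hq ?_
  rw [← card_centralizer_eq_mul, card_centralizer_eq hg, ← card_units_eq, ← Nat.card_prod]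
  have h4 : (4 : F) ≠ 0 := by rw [show (4 : F) = 2 * 2 by norm_num]; exact mul_ne_zero h2 h2
  have key : ∀ a b : F, (a • (1 : M2) + b • (g : M2)).det =
      (a + b * (((g : M2).trace + s) / 2)) * (a + b * (((g : M2).trace - s) / 2)) := by
    intro a b
    rw [H40.det_poly]
    field_simp
    linear_combination (b ^ 2) * hd
  refine Nat.card_congr
    { toFun := fun p => (Units.mk0 _ (left_ne_zero_of_mul (key _ _ ▸ p.2)),
        Units.mk0 _ (right_ne_zero_of_mul (key _ _ ▸ p.2)))
      invFun := fun x => ⟨((x.1 : F) - ((x.1 : F) - x.2) / s * (((g : M2).trace + s) / 2),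
          ((x.1 : F) - x.2) / s), ?_⟩
      left_inv := ?_
      right_inv := ?_ }
  · rw [key]
    refine mul_ne_zero ?_ ?_
    · rw [sub_add_cancel]; exact x.1.ne_zero
    · convert x.2.ne_zero using 1
      field_simp
      ring
  · rintro ⟨⟨a, b⟩, hp⟩
    have hb : (a + b * (((g : M2).trace + s) / 2) - (a + b * (((g : M2).trace - s) / 2))) / s = b := by
      field_simp
      ring
    apply Subtype.ext
    simp only [Units.val_mk0, hb, Prod.mk.injEq, and_true]
    ring
  · rintro ⟨x, z⟩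
    refine Prod.ext (Units.ext ?_) (Units.ext ?_) <;> simp only [Units.val_mk0]
    · ring
    · field_simp
      ring

/-- The order of a torus, non-split case. -/
theorem card_Tor_nonsplit (_h2 : (2 : F) ≠ 0) {g : GL (Fin 2) F} (hg : NS g)
    (hd : ¬ IsSquare ((g : M2).trace ^ 2 - 4 * (g : M2).det)) :
    Nat.card (Tor g) = Nat.card F + 1 := by
  have hq : 0 < Nat.card F - 1 := by rw [← card_units_eq]; exact Nat.card_pos
  refine Nat.eq_of_mul_eq_mul_left hq ?_
  rw [← card_centralizer_eq_mul, card_centralizer_eq hg]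
  have hz : ∀ p : F × F, (p.1 • (1 : M2) + p.2 • (g : M2)).det = 0 ↔ p = 0 := by
    rintro ⟨a, b⟩
    refine ⟨fun h => ?_, fun h => by rw [h]; simp⟩
    simp only at h
    rw [H40.det_poly] at h
    by_cases hb : b = 0
    · subst hb
      simp at h
      rw [h]; rfl
    · exfalso
      refine hd ⟨(2 * a + b * (g : M2).trace) / b, ?_⟩
      field_simp
      linear_combination (-4 : F) * h
  rw [show {p : F × F // (p.1 • (1 : M2) + p.2 • (g : M2)).det ≠ 0} = ↥({0}ᶜ : Set (F × F)) from
    congrArg Subtype (funext fun p => propext (not_congr (hz p))),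
    Nat.card_coe_set_eq, Set.ncard_compl, Set.ncard_singleton, Nat.card_prod]
  obtain ⟨k, hk⟩ : ∃ k, Nat.card F = k + 1 := ⟨Nat.card F - 1, by have := hq; omega⟩
  rw [hk, Nat.add_sub_cancel]
  ring_nf
  omega

/-- The order of a torus, degenerate case. -/
theorem card_Tor_zero (h2 : (2 : F) ≠ 0) {g : GL (Fin 2) F} (hg : NS g)
    (hd : (g : M2).trace ^ 2 - 4 * (g : M2).det = 0) : Nat.card (Tor g) = Nat.card F := by
  have hq : 0 < Nat.card F - 1 := by rw [← card_units_eq]; exact Nat.card_pos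
  refine Nat.eq_of_mul_eq_mul_left hq ?_
  rw [← card_centralizer_eq_mul, card_centralizer_eq hg, ← card_units_eq, ← Nat.card_prod]
  have key : ∀ a b : F, (a • (1 : M2) + b • (g : M2)).det = (a + b * ((g : M2).trace / 2)) ^ 2 := by
    intro a b
    rw [H40.det_poly]
    field_simp
    linear_combination -(b ^ 2) * hd
  refine Nat.card_congr
    { toFun := fun p => (Units.mk0 _ (pow_ne_zero_iff two_ne_zero |>.1 (key _ _ ▸ p.2)), p.1.2)
      invFun := fun x => ⟨((x.1 : F) - x.2 * ((g : M2).trace / 2), x.2), ?_⟩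
      left_inv := ?_
      right_inv := ?_ }
  · rw [key, sub_add_cancel]
    exact pow_ne_zero _ x.1.ne_zero
  · rintro ⟨⟨a, b⟩, hp⟩
    apply Subtype.ext
    simp only [Units.val_mk0, Prod.mk.injEq, and_true]
    ring
  · rintro ⟨x, z⟩
    refine Prod.ext (Units.ext ?_) rfl
    simp

/-- Tori with distinct eigenvalues are cyclic. -/
theorem isCyclic_Tor (h2 : (2 : F) ≠ 0) {g : GL (Fin 2) F} (hg : NS g)
    (hd : (g : M2).trace ^ 2 - 4 * (g : M2).det ≠ 0) : IsCyclic (Tor g) := by
  classical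
  let E := AlgebraicClosure F
  obtain ⟨s, hs⟩ := IsAlgClosed.exists_eq_mul_self
    (algebraMap F E ((g : M2).trace ^ 2 - 4 * (g : M2).det))
  have hs0 : s ≠ 0 := by
    rintro rfl
    rw [mul_zero, map_eq_zero] at hs
    exact hd hs
  have h2E : (2 : E) ≠ 0 := by
    rw [← map_ofNat (algebraMap F E) 2, Ne, map_eq_zero]
    exact h2
  have coef : ∀ z : Subgroup.centralizer {g}, ∃ a b : F,
      ((z : GL (Fin 2) F) : M2) = a • 1 + b • (g : M2) := fun z =>
    exists_poly hg (Subgroup.mem_centralizer_singleton_iff.1 z.2)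
  choose A B hAB using coef
  have hmul : ∀ z w, A (z * w) = A z * A w - B z * B w * (g : M2).det ∧
      B (z * w) = A z * B w + A w * B z + B z * B w * (g : M2).trace := fun z w =>
    H40.poly_injective hg (by rw [← poly_mul, ← hAB, ← hAB, ← hAB]; rfl)
  have hone : A 1 = 1 ∧ B 1 = 0 := H40.poly_injective hg (by rw [← hAB]; simp)
  have hchi : ∀ e : E, e * e = algebraMap F E ((g : M2).trace ^ 2 - 4 * (g : M2).det) →
      ∃ χ : Subgroup.centralizer {g} →* E, ∀ z, χ z =
        algebraMap F E (A z) + algebraMap F E (B z) * ((algebraMap F E (g : M2).trace + e) / 2) := by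
    intro e he
    simp only [map_sub, map_pow, map_mul, map_ofNat] at he
    refine ⟨{ toFun := fun z => algebraMap F E (A z) +
                algebraMap F E (B z) * ((algebraMap F E (g : M2).trace + e) / 2)
              map_one' := by simp [hone.1, hone.2]
              map_mul' := fun z w => ?_ }, fun z => rfl⟩
    simp only [(hmul z w).1, (hmul z w).2, map_sub, map_add, map_mul]
    have hi : (2 : E) * (2 : E)⁻¹ = 1 := mul_inv_cancel₀ h2E
    rw [div_eq_mul_inv]
    generalize algebraMap F E (g : M2).trace = a at he ⊢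
    generalize algebraMap F E (g : M2).det = d at he ⊢
    generalize (2 : E)⁻¹ = i at hi ⊢
    linear_combination (-(algebraMap F E (B z) * algebraMap F E (B w))) *
      ((i * i) * he + (a * (a + e) * i - d * (2 * i + 1)) * hi)
  obtain ⟨χ, hχ⟩ := hchi s hs.symm
  obtain ⟨χ', hχ'⟩ := hchi (-s) (by rw [neg_mul_neg]; exact hs.symm)
  let ψ : Subgroup.centralizer {g} →* Eˣ := χ.toHomUnits / χ'.toHomUnits
  have hker : ∀ z, ψ z = 1 → pm (z : GL (Fin 2) F) = 1 := by
    intro z hz
    have h1 : χ z = χ' z := congrArg Units.val (div_eq_one.1 (hz : χ.toHomUnits z / χ'.toHomUnits z = 1))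
    rw [hχ, hχ'] at h1
    have h3 : algebraMap F E (B z) * s = 0 := by
      have hi : (2 : E) * (2 : E)⁻¹ = 1 := mul_inv_cancel₀ h2E
      rw [div_eq_mul_inv, div_eq_mul_inv] at h1
      linear_combination h1 - (algebraMap F E (B z) * s) * hi
    rw [pm_eq_one_iff, hAB z, show B z = 0 from (map_eq_zero _).1 ((mul_eq_zero.1 h3).resolve_right hs0)]
    simp [H40.IsScalar2]
  haveI : Finite ψ.range := Finite.of_surjective _ ψ.rangeRestrict_surjective
  haveI : IsCyclic ψ.range := isCyclic_of_injective_ringHom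
    ((Units.coeHom E).comp ψ.range.subtype) fun x y e => Subtype.ext (Units.ext e)
  obtain ⟨⟨_, z₀, rfl⟩, hgen⟩ := IsCyclic.exists_generator (α := ψ.range)
  refine ⟨⟨⟨pm (z₀ : GL (Fin 2) F), Subgroup.mem_map_of_mem _ z₀.2⟩, ?_⟩⟩
  rintro ⟨x, hx⟩
  obtain ⟨z, hz, rfl⟩ := Subgroup.mem_map.1 hx
  obtain ⟨k, hk⟩ := hgen ⟨ψ ⟨z, hz⟩, ⟨z, hz⟩, rfl⟩
  have hk' : ψ z₀ ^ k = ψ ⟨z, hz⟩ := congrArg Subtype.val hk
  refine ⟨k, Subtype.ext ?_⟩
  have h5 := hker ((z₀ ^ k)⁻¹ * ⟨z, hz⟩) (by rw [map_mul, map_inv, map_zpow, hk', inv_mul_cancel])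
  simp only [Subgroup.coe_mul, Subgroup.coe_inv, SubgroupClass.coe_zpow, map_mul, map_inv,
    map_zpow, inv_mul_eq_one] at h5
  rw [SubgroupClass.coe_zpow]
  exact h5

end Fin

end H53.CSy
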